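import Groth.Agent.H22.Horrocks.Laurent
import Mathlib

/-!
Applications: vector bundles on the projective line, monic localisation.
-/

set_option autoImplicit false
set_option maxHeartbeats 1000000
universe u

open Polynomial LaurentPolynomial TensorProduct

namespace Groth.Agent.H22.Horrocks

variable {A : Type u} [CommRing A] {n k : ℕ}

theorem eqv_of_semilinear {R : Type u} [CommRing R] {M N : Type u} [AddCommGroup M] [Module R M]
    [AddCommGroup N] [Module R N] (P : Pres R M) (Q : Pres R N) (τ : R ≃+* R)
    (θ : M →ₛₗ[τ.toRingHom] N) (hθ : Function.Bijective θ) : Eqv (P.e.map τ.toRingHom) Q.e := by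
  let θ' : M ≃+ N := AddEquiv.ofBijective θ.toAddMonoidHom hθ
  have hθ' : ∀ x, θ' x = θ x := fun _ => rfl
  have hsymm : ∀ (r : R) (y : N), θ'.symm (r • y) = τ.symm r • θ'.symm y := fun r y => by
    rw [AddEquiv.symm_apply_eq, hθ', θ.map_smulₛₗ, ← hθ', AddEquiv.apply_symm_apply]
    simp
  let P' : Pres R N :=
    { n := P.n
      π :=
        { toFun := fun v => θ (P.π fun i => τ.symm (v i))
          map_add' := fun v w => by
            rw [← map_add θ, ← map_add P.π]
            congr 2
            exact funext fun i => by simp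
          map_smul' := fun r v => by
            rw [RingHom.id_apply, show r = τ.toRingHom (τ.symm r) by simp, ← θ.map_smulₛₗ, ← P.π.map_smul]
            congr 2
            exact funext fun i => by simp }
      σ :=
        { toFun := fun y i => τ (P.σ (θ'.symm y) i)
          map_add' := fun y z => funext fun i => by simp
          map_smul' := fun r y => funext fun i => by simp [hsymm] }
      hπσ := fun y => by
        show θ (P.π fun i => τ.symm (τ (P.σ (θ'.symm y) i))) = y
        simp only [RingEquiv.symm_apply_apply, P.hπσ]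
        exact θ'.apply_symm_apply y }
  have he : P'.e = P.e.map τ.toRingHom := by
    refine Matrix.ext fun (i : Fin P.n) (j : Fin P.n) => ?_
    show LinearMap.toMatrix' (P'.σ ∘ₗ P'.π) i j = _
    rw [LinearMap.toMatrix'_apply, Matrix.map_apply, Pres.e, LinearMap.toMatrix'_apply]
    show τ (P.σ (θ'.symm (θ (P.π fun l => τ.symm ((Pi.single j 1 : Fin P.n → R) l)))) i) = _
    have : (fun l => τ.symm ((Pi.single j 1 : Fin P.n → R) l)) = Pi.single j 1 := funext fun l => by
      simp [Pi.single_apply, apply_ite τ.symm]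
    rw [this, ← hθ', AddEquiv.symm_apply_apply]
    rfl
  rw [← he]
  exact P'.eqv_of_linearEquiv Q (LinearEquiv.refl R N)

theorem exists_eqv_one_of_constantCoeff (m : Ideal A) [m.IsPrime] {S : Type u} [CommRing S] (ρ : A[X] →+* S)
    (hρ : ∀ q : A[X], q.coeff 0 ∉ m → IsUnit (ρ q)) {e : Matrix (Fin n) (Fin n) A[X]} (he : e * e = e) :
    ∃ r : ℕ, Eqv (e.map ρ) (1 : Matrix (Fin r) (Fin r) S) := by
  let P : Ideal A[X] := m.comap Polynomial.constantCoeff
  obtain ⟨r, hr⟩ := exists_eqv_one_of_isLocalRing (map_idem' (algebraMap A[X] (Localization.AtPrime P)) he)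
  refine ⟨r, ?_⟩
  have hu : ∀ q : P.primeCompl, IsUnit (ρ q) := fun q => hρ _ q.2
  have h := hr.map (IsLocalization.lift (S := Localization.AtPrime P) hu)
  rwa [map_one', map_map', IsLocalization.lift_comp] at h

/-- A vector bundle on the projective line restricted to the affine line is extended. -/
theorem extended_of_glues {eM : Matrix (Fin n) (Fin n) A[X]} {eN : Matrix (Fin k) (Fin k) A[X]}
    (hM : eM * eM = eM) (hN : eN * eN = eN)
    (h : Eqv (eM.map (algebraMap A[X] A[T;T⁻¹]))
      (eN.map (((LaurentPolynomial.invert (R := A)).toRingEquiv.toRingHom).comp (algebraMap A[X] A[T;T⁻¹])))) :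
    Eqv eM (eM.map (Polynomial.C.comp (evalRingHom 0))) := by
  refine extended hM fun m _ => ?_
  set L := Localization (monics (Localization.AtPrime m))
  have hX : IsUnit (toMonLoc A m Polynomial.X) := isUnit_toMonLoc m monic_X
  let χ : A[T;T⁻¹] →+* L := IsLocalization.Away.lift (S := A[T;T⁻¹]) Polynomial.X hX
  have hχ : ∀ p : A[X], χ (algebraMap A[X] A[T;T⁻¹] p) = toMonLoc A m p :=
    fun p => IsLocalization.Away.lift_eq Polynomial.X hX p
  set inv := (LaurentPolynomial.invert (R := A)).toRingEquiv.toRingHom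
  set ρ : A[X] →+* L := χ.comp (inv.comp (algebraMap A[X] A[T;T⁻¹]))
  have hρC : ∀ a, ρ (Polynomial.C a) = toMonLoc A m (Polynomial.C a) := fun a => by
    rw [← hχ]
    show χ (LaurentPolynomial.invert (Polynomial.toLaurent (Polynomial.C a))) = χ (Polynomial.toLaurent (Polynomial.C a))
    rw [Polynomial.toLaurent_C, LaurentPolynomial.invert_C]
  have hρX : ρ Polynomial.X * toMonLoc A m Polynomial.X = 1 := by
    rw [← hχ, RingHom.comp_apply, ← map_mul]
    convert map_one χ
    show LaurentPolynomial.invert (Polynomial.toLaurent Polynomial.X) * Polynomial.toLaurent Polynomial.X = (1 : A[T;T⁻¹])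
    rw [Polynomial.toLaurent_X, LaurentPolynomial.invert_T, ← T_add, neg_add_cancel, T_zero]
  letI : Invertible (ρ Polynomial.X) :=
    ⟨toMonLoc A m Polynomial.X, by rw [mul_comm]; exact hρX, hρX⟩
  have hρ : ∀ q : A[X], q.coeff 0 ∉ m → IsUnit (ρ q) := by
    intro q hq
    have key : toMonLoc A m q.reverse * ρ Polynomial.X ^ q.natDegree = ρ q := by
      have h := eval₂_reverse_mul_pow ((toMonLoc A m).comp Polynomial.C) (ρ Polynomial.X) q
      have e1 : toMonLoc A m q.reverse = Polynomial.eval₂ ((toMonLoc A m).comp Polynomial.C) (⅟(ρ Polynomial.X)) q.reverse := by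
        rw [← coe_eval₂RingHom]
        congr 1
        exact Polynomial.ringHom_ext (fun a => by simp) (by rw [coe_eval₂RingHom, eval₂_X]; rfl)
      have e2 : ρ q = Polynomial.eval₂ ((toMonLoc A m).comp Polynomial.C) (ρ Polynomial.X) q := by
        rw [← coe_eval₂RingHom]
        congr 1
        exact Polynomial.ringHom_ext (fun a => by simp [hρC]) (by simp)
      rw [e1, e2, h]
    rw [← key]
    refine IsUnit.mul ?_ ((isUnit_of_invertible _).pow _)
    set p := q.reverse.map (algebraMap A (Localization.AtPrime m))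
    obtain ⟨w, hw⟩ : IsUnit (p.coeff q.natDegree) := by
      simp only [p, Polynomial.coeff_map, coeff_reverse, revAt_le le_rfl, Nat.sub_self]
      exact IsLocalization.map_units (Localization.AtPrime m) (⟨q.coeff 0, hq⟩ : m.primeCompl)
    have hm : (Polynomial.C (↑w⁻¹ : Localization.AtPrime m) * p).Monic := by
      refine monic_of_natDegree_le_of_coeff_eq_one q.natDegree ?_ ?_
      · exact (natDegree_C_mul_le _ _).trans (natDegree_map_le.trans (reverse_natDegree_le q))
      · rw [Polynomial.coeff_C_mul, ← hw, Units.inv_mul]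
    have h2 := IsLocalization.map_units L (⟨_, hm⟩ : monics (Localization.AtPrime m))
    rw [map_mul] at h2
    exact isUnit_of_mul_isUnit_right h2
  obtain ⟨r, hr⟩ := exists_eqv_one_of_constantCoeff m ρ hρ hN
  refine ⟨r, ?_⟩
  have h' := h.map χ
  rw [map_map', map_map', show χ.comp (algebraMap A[X] A[T;T⁻¹]) = toMonLoc A m from RingHom.ext hχ] at h'
  exact h'.trans hr (map_idem' _ hM) (by rw [Matrix.one_mul])

theorem extended_of_semilinear {M N : Type u} [AddCommGroup M] [Module A[X] M] [AddCommGroup N] [Module A[X] N]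
    (P : Pres A[X] M) (Q : Pres A[X] N)
    (e : (A[T;T⁻¹] ⊗[A[X]] M) →ₛₗ[(LaurentPolynomial.invert (R := A)).toRingEquiv.toRingHom]
      (A[T;T⁻¹] ⊗[A[X]] N)) (he : Function.Bijective e) :
    Eqv P.e (P.e.map (Polynomial.C.comp (evalRingHom 0))) := by
  refine extended_of_glues (eN := Q.e) P.idem Q.idem ?_
  have h : Eqv ((P.e.map (algebraMap A[X] A[T;T⁻¹])).map (LaurentPolynomial.invert (R := A)).toRingEquiv.toRingHom)
      (Q.e.map (algebraMap A[X] A[T;T⁻¹])) := by
    rw [← Pres.baseChange_e, ← Pres.baseChange_e]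
    exact eqv_of_semilinear (P.baseChange A[T;T⁻¹]) (Q.baseChange A[T;T⁻¹])
      (LaurentPolynomial.invert (R := A)).toRingEquiv e he
  have h' := h.map (LaurentPolynomial.invert (R := A)).toRingEquiv.toRingHom
  rw [map_map', map_map', map_map'] at h'
  convert h' using 2
  refine funext fun p => ?_
  show algebraMap A[X] A[T;T⁻¹] p = LaurentPolynomial.invert (LaurentPolynomial.invert (algebraMap A[X] A[T;T⁻¹] p))
  simpa [LaurentPolynomial.invert_symm] using
    ((LaurentPolynomial.invert (R := A)).symm_apply_apply (algebraMap A[X] A[T;T⁻¹] p)).symm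

/-- The map from the monic localisation to Laurent series in `1/X`. -/
theorem eqv_of_monicLocalization (At : Type u) [CommRing At] [Algebra A[X] At]
    (M : Submonoid A[X]) (hM : ∀ f : A[X], f ∈ M ↔ f.Monic) [IsLocalization M At]
    {e : Matrix (Fin n) (Fin n) A} {f : Matrix (Fin k) (Fin k) A} (he : e * e = e) (hf : f * f = f)
    (h : Eqv (e.map ((algebraMap A[X] At).comp Polynomial.C)) (f.map ((algebraMap A[X] At).comp Polynomial.C))) :
    Eqv e f := by
  letI : Invertible (HahnSeries.single (-1 : ℤ) (1 : A)) :=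
    ⟨HahnSeries.single (1 : ℤ) 1, by simp [HahnSeries.single_mul_single], by simp [HahnSeries.single_mul_single]⟩
  let ev : A[X] →+* LaurentSeries A := Polynomial.eval₂RingHom HahnSeries.C (HahnSeries.single (-1 : ℤ) 1)
  have hev : ∀ q : M, IsUnit (ev q) := by
    rintro ⟨q, hq⟩
    rw [hM] at hq
    show IsUnit (Polynomial.eval₂ _ _ q)
    rw [← Polynomial.eval₂_reverse_mul_pow]
    refine IsUnit.mul ?_ ((isUnit_of_invertible _).pow _)
    have e1 : Polynomial.eval₂ (HahnSeries.C : A →+* LaurentSeries A) (⅟(HahnSeries.single (-1 : ℤ) (1 : A))) q.reverse =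
        HahnSeries.ofPowerSeries ℤ A (q.reverse : PowerSeries A) := by
      show Polynomial.eval₂RingHom _ _ q.reverse = ((HahnSeries.ofPowerSeries ℤ A).comp Polynomial.coeToPowerSeries.ringHom) q.reverse
      congr 1
      exact Polynomial.ringHom_ext (fun a => by simp) (by simp; rfl)
    rw [e1]
    refine IsUnit.map _ (PowerSeries.isUnit_iff_constantCoeff.2 ?_)
    simp [coeff_zero_reverse, hq.leadingCoeff]
  have h' := h.map (IsLocalization.lift (S := At) hev)
  rw [map_map', map_map', ← RingHom.comp_assoc, IsLocalization.lift_comp,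
    show ev.comp Polynomial.C = (HahnSeries.C : A →+* LaurentSeries A) from RingHom.ext fun a => by simp [ev]] at h'
  exact eqv_of_laurentSeries he hf h'

end Groth.Agent.H22.Horrocks
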