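import Groth.Agent.H22.Horrocks.Idem
import Mathlib

/-!
Horrocks' theorem over a local ring: a finite projective `A[X]`-module which is free after inverting the monic
polynomials is free.
-/

set_option autoImplicit false
set_option maxHeartbeats 1000000
universe u

open Polynomial TensorProduct

namespace Groth.Agent.H22.Horrocks

variable (A : Type u) [CommRing A]

/-- The monic polynomials. -/
def monics : Submonoid A[X] where
  carrier := {f | f.Monic}
  one_mem' := monic_one
  mul_mem' hf hg := hf.mul hg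

variable {A}

theorem mem_monics {f : A[X]} : f ∈ monics A ↔ f.Monic := Iff.rfl

theorem smul_mem_of_mem_map_C {Y : Type u} [AddCommGroup Y] [Module A[X] Y] [Module A Y]
    [IsScalarTower A A[X] Y] {I : Ideal A} {p : A[X]} (hp : p ∈ I.map C) (y : Y) :
    p • y ∈ (I • ⊤ : Submodule A Y) := by
  rw [p.as_sum_range_C_mul_X_pow, Finset.sum_smul]
  refine sum_mem fun i _ => ?_
  rw [mul_smul, show (C (p.coeff i)) • (X ^ i • y) = p.coeff i • (X ^ i • y) from algebraMap_smul A[X] _ _]
  exact Submodule.smul_mem_smul (Ideal.mem_map_C_iff.1 hp i) trivial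

theorem mem_sup_span_powers [Nontrivial A] {Y : Type u} [AddCommGroup Y] [Module A[X] Y] [Module A Y]
    [IsScalarTower A A[X] Y] (S : Submodule A Y) {F : A[X]} (hF : F.Monic) (y : Y)
    (hy : ∀ h : A[X], (h * F) • y ∈ S) (h : A[X]) :
    h • y ∈ S ⊔ Submodule.span A (Set.range fun j : Fin F.natDegree => (X : A[X]) ^ (j : ℕ) • y) := by
  rw [← modByMonic_add_div h F, add_smul]
  refine add_mem ?_ (Submodule.mem_sup_left (by rw [mul_comm]; exact hy _))
  rw [as_sum_range_C_mul_X_pow (h %ₘ F), Finset.sum_smul]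
  refine sum_mem fun i _ => ?_
  rw [mul_smul, show (C ((h %ₘ F).coeff i)) • (X ^ i • y) = (h %ₘ F).coeff i • (X ^ i • y) from
    algebraMap_smul A[X] _ _]
  by_cases hi : i < F.natDegree
  · exact Submodule.mem_sup_right (Submodule.smul_mem _ _ (Submodule.subset_span ⟨⟨i, hi⟩, rfl⟩))
  · rw [coeff_eq_zero_of_degree_lt ((degree_modByMonic_lt h hF).trans_le
      (degree_le_natDegree.trans (WithBot.coe_le_coe.2 (not_lt.1 hi)))), zero_smul]
    exact zero_mem _

section Bd

variable (At : Type u) [CommRing At] [Algebra A[X] At]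

/-- Fractions `p/q` with `q` monic, `deg p ≤ deg q` and the coefficients of `p` in `I`. -/
def Bd (I : Ideal A) (t : At) : Prop :=
  ∃ p q : A[X], q.Monic ∧ p.natDegree ≤ q.natDegree ∧ p ∈ I.map C ∧
    t * algebraMap A[X] At q = algebraMap A[X] At p

variable {At}

theorem Bd.zero (I : Ideal A) : Bd At I 0 := ⟨0, 1, monic_one, by simp, zero_mem _, by simp⟩

theorem Bd.add {I : Ideal A} {s t : At} (hs : Bd At I s) (ht : Bd At I t) : Bd At I (s + t) := by
  obtain ⟨p, q, hq, hd, hp, e⟩ := hs
  obtain ⟨p', q', hq', hd', hp', e'⟩ := ht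
  refine ⟨p * q' + p' * q, q * q', hq.mul hq', ?_, add_mem (Ideal.mul_mem_right _ _ hp)
    (Ideal.mul_mem_right _ _ hp'), ?_⟩
  · rw [hq.natDegree_mul hq']
    refine (natDegree_add_le _ _).trans (max_le ?_ ?_)
    · exact natDegree_mul_le.trans (by omega)
    · exact natDegree_mul_le.trans (by omega)
  · simp only [map_add, map_mul, ← e, ← e']
    ring

theorem Bd.mul {I J : Ideal A} {s t : At} (hs : Bd At I s) (ht : Bd At J t) : Bd At I (s * t) := by
  obtain ⟨p, q, hq, hd, hp, e⟩ := hs
  obtain ⟨p', q', hq', hd', -, e'⟩ := ht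
  refine ⟨p * p', q * q', hq.mul hq', ?_, Ideal.mul_mem_right _ _ hp, ?_⟩
  · rw [hq.natDegree_mul hq']
    exact natDegree_mul_le.trans (by omega)
  · simp only [map_mul, ← e, ← e']
    ring

theorem Bd.algebraMap_C {I : Ideal A} {a : A} (ha : a ∈ I) : Bd At I (algebraMap A[X] At (C a)) :=
  ⟨C a, 1, monic_one, by simp, Ideal.mem_map_of_mem _ ha, by simp⟩

theorem Bd.smul_C {I : Ideal A} {a : A} (ha : a ∈ I) {t : At} (ht : Bd At (⊤ : Ideal A) t) :
    Bd At I (algebraMap A[X] At (C a) * t) := (Bd.algebraMap_C ha).mul ht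

theorem Bd.top {I : Ideal A} {t : At} (h : Bd At I t) : Bd At (⊤ : Ideal A) t := by
  obtain ⟨p, q, hq, hd, hp, e⟩ := h
  exact ⟨p, q, hq, hd, Ideal.map_mono le_top hp, e⟩

variable [IsLocalization (monics A) At]

theorem Bd.isUnit_one_add [IsLocalRing A] {t : At} (ht : Bd At (IsLocalRing.maximalIdeal A) t) :
    IsUnit (1 + t) := by
  obtain ⟨p, q, hq, hd, hp, e⟩ := ht
  have hc : IsUnit ((q + p).coeff q.natDegree) := by
    rw [coeff_add, hq.coeff_natDegree, ← IsLocalRing.notMem_maximalIdeal]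
    intro h
    exact (IsLocalRing.maximalIdeal.isMaximal A).ne_top ((Ideal.eq_top_iff_one _).2
      (by simpa using Ideal.sub_mem _ h (Ideal.mem_map_C_iff.1 hp q.natDegree)))
  obtain ⟨w, hw⟩ := hc
  have hm : (C (↑w⁻¹ : A) * (q + p)).Monic := by
    refine monic_of_natDegree_le_of_coeff_eq_one q.natDegree ?_ ?_
    · exact (natDegree_C_mul_le _ _).trans ((natDegree_add_le _ _).trans (max_le le_rfl hd))
    · rw [coeff_C_mul, ← hw, Units.inv_mul]
  have h1 : IsUnit (algebraMap A[X] At q) := IsLocalization.map_units At (⟨q, hq⟩ : monics A)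
  have h2 : IsUnit (algebraMap A[X] At (C (↑w⁻¹ : A) * (q + p))) := IsLocalization.map_units At (⟨_, hm⟩ : monics A)
  have h3 : IsUnit (algebraMap A[X] At (q + p)) := by
    rw [map_mul] at h2
    exact isUnit_of_mul_isUnit_right h2
  have h4 : (1 + t) * algebraMap A[X] At q = algebraMap A[X] At (q + p) := by
    rw [map_add, ← e]; ring
  rw [← h4] at h3
  exact isUnit_of_mul_isUnit_left h3

end Bd

section Main

variable [IsLocalRing A] (M : Type u) [AddCommGroup M] [Module A[X] M] [Module.Finite A[X] M]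
  [Module.Projective A[X] M] (At : Type u) [CommRing At] [Algebra A[X] At] [IsLocalization (monics A) At]

open IsLocalRing in
theorem free_of_free_monicLocalization [Module.Free At (At ⊗[A[X]] M)] : Module.Free A[X] M := by
  classical
  letI : Algebra A At := ((algebraMap A[X] At).comp C).toAlgebra
  haveI : IsScalarTower A A[X] At := IsScalarTower.of_algebraMap_eq fun _ => rfl
  letI : Module A M := Module.compHom M (C : A →+* A[X])
  haveI : IsScalarTower A A[X] M := IsScalarTower.of_algebraMap_smul fun _ _ => rfl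
  set 𝔪 := maximalIdeal A
  haveI : IsScalarTower A A[X] (At ⊗[A[X]] M) :=
    IsScalarTower.of_algebraMap_smul fun r x => by
      rw [← algebraMap_smul At (algebraMap A A[X] r) x, ← IsScalarTower.algebraMap_apply,
        algebraMap_smul]
  set P : Ideal A[X] := 𝔪.map C
  haveI hPprime : P.IsPrime := inferInstance
  letI : Field (A ⧸ 𝔪) := Ideal.Quotient.field 𝔪
  haveI : IsPrincipalIdealRing (A[X] ⧸ P) :=
    IsPrincipalIdealRing.of_surjective (Ideal.polynomialQuotientEquivQuotientPolynomial 𝔪).toRingHom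
      (Ideal.polynomialQuotientEquivQuotientPolynomial 𝔪).surjective
  let K := FractionRing (A[X] ⧸ P)
  have hmon : ∀ q : monics A, IsUnit (algebraMap A[X] K q) := fun q => by
    rw [isUnit_iff_ne_zero, IsScalarTower.algebraMap_apply A[X] (A[X] ⧸ P) K]
    intro h
    rw [← map_zero (algebraMap (A[X] ⧸ P) K)] at h
    have h1 := Ideal.mem_map_C_iff.1 (Ideal.Quotient.eq_zero_iff_mem.1 (IsFractionRing.injective _ K h))
      (q : A[X]).natDegree
    rw [(mem_monics.1 q.2).coeff_natDegree] at h1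
    exact (maximalIdeal.isMaximal A).ne_top ((Ideal.eq_top_iff_one _).2 h1)
  let φ : At →+* K := IsLocalization.lift hmon
  have hφ : ∀ p, φ (algebraMap A[X] At p) = algebraMap A[X] K p := fun p => IsLocalization.lift_eq hmon p
  letI : Algebra At K := φ.toAlgebra
  haveI : IsScalarTower A[X] At K := IsScalarTower.of_algebraMap_eq fun p => (hφ p).symm
  -- kernel and surjectivity
  have hker : ∀ t : At, φ t = 0 → ∀ y : At ⊗[A[X]] M, t • y ∈ (𝔪 • ⊤ : Submodule A (At ⊗[A[X]] M)) := by
    intro t ht y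
    obtain ⟨⟨p, q⟩, hpq⟩ := IsLocalization.surj (monics A) t
    obtain ⟨v, hv⟩ := IsLocalization.map_units At q
    have hp : p ∈ P := by
      have h : algebraMap A[X] K p = 0 := by
        have := congrArg φ hpq
        rw [map_mul, ht, zero_mul, hφ] at this
        exact this.symm
      rw [IsScalarTower.algebraMap_apply A[X] (A[X] ⧸ P) K,
        map_eq_zero_iff _ (IsFractionRing.injective (A[X] ⧸ P) K)] at h
      exact Ideal.Quotient.eq_zero_iff_mem.1 h
    have : t • y = p • ((↑v⁻¹ : At) • y) := by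
      rw [← algebraMap_smul At p, smul_smul, ← hpq, mul_assoc, ← hv, Units.mul_inv, mul_one]
    rw [this]
    exact smul_mem_of_mem_map_C hp _
  have hlift0 : ∀ b : A[X] ⧸ P, b ≠ 0 → ∃ u : Atˣ, φ u = algebraMap _ K b := by
    intro b hb
    obtain ⟨p, rfl⟩ := Ideal.Quotient.mk_surjective b
    set π := Ideal.Quotient.mk 𝔪
    have hp : p.map π ≠ 0 := by
      intro h
      refine hb (Ideal.Quotient.eq_zero_iff_mem.2 (Ideal.mem_map_C_iff.2 fun j => ?_))
      have := congrArg (fun f : (A ⧸ 𝔪)[X] => f.coeff j) h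
      simpa [π, Ideal.Quotient.eq_zero_iff_mem] using this
    obtain ⟨w, hw⟩ := Ideal.Quotient.mk_surjective (p.map π).leadingCoeff⁻¹
    have hwu : IsUnit w := by
      rw [← notMem_maximalIdeal]
      intro h
      rw [Ideal.Quotient.eq_zero_iff_mem.2 h] at hw
      exact inv_ne_zero (leadingCoeff_ne_zero.2 hp) hw.symm
    obtain ⟨q, hq, -, hqm⟩ := lifts_and_degree_eq_and_monic (f := π)
      (p := p.map π * C (p.map π).leadingCoeff⁻¹) ⟨p * C w, by rw [coe_mapRingHom, Polynomial.map_mul, map_C, hw]⟩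
      (monic_mul_leadingCoeff_inv hp)
    have hPq : Ideal.Quotient.mk P q = Ideal.Quotient.mk P (p * C w) := by
      rw [Ideal.Quotient.eq]
      refine Ideal.mem_map_C_iff.2 fun j => ?_
      rw [← Ideal.Quotient.eq_zero_iff_mem, ← coeff_map, Polynomial.map_sub, hq]
      simp [π, hw]
    have h1 : IsUnit (algebraMap A[X] At q) := IsLocalization.map_units At (⟨q, hqm⟩ : monics A)
    obtain ⟨u, hu⟩ := h1
    obtain ⟨v, hv⟩ := (hwu.map (C : A →+* A[X])).map (algebraMap A[X] At)
    refine ⟨u * v⁻¹, ?_⟩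
    have h2 : φ (↑(u * v⁻¹) : At) * φ (v : At) = algebraMap _ K (Ideal.Quotient.mk P p) * φ (v : At) := by
      rw [← map_mul, show ((↑(u * v⁻¹) : At) * v = u) by simp [mul_assoc], hu, hv, hφ, hφ,
        IsScalarTower.algebraMap_apply A[X] (A[X] ⧸ P) K q,
        IsScalarTower.algebraMap_apply A[X] (A[X] ⧸ P) K (C w), ← map_mul]
      congr 1
    exact mul_right_cancel₀ (v.isUnit.map φ).ne_zero h2
  have hlift : ∀ x : K, x ≠ 0 → ∃ u : Atˣ, φ u = x := by
    intro x hx
    obtain ⟨a, b, hb, rfl⟩ := IsFractionRing.div_surjective (A := A[X] ⧸ P) x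
    obtain ⟨u, hu⟩ := hlift0 a fun h => hx (by simp [h])
    obtain ⟨v, hv⟩ := hlift0 b (nonZeroDivisors.ne_zero hb)
    refine ⟨u * v⁻¹, ?_⟩
    rw [eq_div_iff (by rw [← hv]; exact (v.isUnit.map φ).ne_zero), ← hv, ← map_mul]
    simp [hu]
  have hsurj : ∀ x : K, ∃ t : At, φ t = x := fun x => by
    by_cases hx : x = 0
    · exact ⟨0, by rw [hx, map_zero]⟩
    · obtain ⟨u, hu⟩ := hlift x hx; exact ⟨u, hu⟩
  -- the basis `b` of the localisation and the lifts `z`
  let MT := At ⊗[A[X]] M
  set ι : M →ₗ[A[X]] MT := TensorProduct.mk A[X] At M 1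
  haveI : IsLocalizedModule (monics A) ι :=
    (isLocalizedModule_iff_isBaseChange (monics A) At ι).mpr (TensorProduct.isBaseChange A[X] M At)
  obtain ⟨Q⟩ := exists_pres (R := A[X]) (M := M)
  have hιinj : Function.Injective ι := fun x y h => by
    obtain ⟨c, hc⟩ := (IsLocalizedModule.eq_iff_exists (monics A) ι).1 h
    have := congrArg Q.σ hc
    simp only [Submonoid.smul_def, map_smul] at this
    rw [← Q.hπσ x, ← Q.hπσ y]
    congr 1
    ext i : 1
    exact (mem_monics.1 c.2).isRegular.left (congrFun this i)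
  let J := Module.Free.ChooseBasisIndex At MT
  let b : Module.Basis J At MT := Module.Free.chooseBasis At MT
  let N := (A[X] ⧸ P) ⊗[A[X]] M
  haveI : Module.Free (A[X] ⧸ P) N := inferInstance
  let cN := Module.Free.chooseBasis (A[X] ⧸ P) N
  choose z0 hz0 using fun j => TensorProduct.mk_surjective A[X] M (A[X] ⧸ P) Ideal.Quotient.mk_surjective (cN j)
  let B1 := (Algebra.TensorProduct.basis K cN).map
    (AlgebraTensorModule.cancelBaseChange A[X] (A[X] ⧸ P) K K M)
  let B2 := (Algebra.TensorProduct.basis K b).map (AlgebraTensorModule.cancelBaseChange A[X] At K K M)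
  let ε := B1.indexEquiv B2
  let B1' := B1.reindex ε
  let z : J → M := fun j => z0 (ε.symm j)
  have hB1 : ∀ j, B1' j = (1 : K) ⊗ₜ[A[X]] z j := fun j => by
    simp only [B1', B1, z, Module.Basis.reindex_apply, Module.Basis.map_apply,
      Algebra.TensorProduct.basis_apply, ← hz0, TensorProduct.mk_apply]
    erw [AlgebraTensorModule.cancelBaseChange_tmul, one_smul]
  have hB2 : ∀ (w : M) (i : J), B2.repr ((1 : K) ⊗ₜ[A[X]] w) i = φ (b.repr (ι w) i) := fun w i => by
    have : (AlgebraTensorModule.cancelBaseChange A[X] At K K M).symm ((1 : K) ⊗ₜ[A[X]] w) =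
        (1 : K) ⊗ₜ[At] ι w := by
      rw [LinearEquiv.symm_apply_eq]
      simp only [ι, TensorProduct.mk_apply]
      erw [AlgebraTensorModule.cancelBaseChange_tmul, one_smul]
    simp only [B2, Module.Basis.map_repr, LinearEquiv.trans_apply, this,
      Algebra.TensorProduct.basis_repr_tmul, one_smul]
    rfl
  let G : Matrix J J At := Matrix.of fun i j => b.repr (ι (z j)) i
  have hG : G.map φ = B2.toMatrix B1' := by
    ext i j
    rw [Module.Basis.toMatrix_apply, hB1, hB2]
    rfl
  have hGdet : (G.map φ).det ≠ 0 := by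
    rw [hG]
    intro h
    have := congrArg Matrix.det (B2.toMatrix_mul_toMatrix_flip B1')
    rw [Matrix.det_mul, h, zero_mul, Matrix.det_one] at this
    exact zero_ne_one this
  obtain ⟨G', hG', hG'φ⟩ : ∃ G' : Matrix J J At, IsUnit G'.det ∧ G'.map φ = G.map φ := by
    refine Matrix.diagonal_transvection_induction_of_det_ne_zero
      (fun T => ∃ G' : Matrix J J At, IsUnit G'.det ∧ G'.map φ = T) _ hGdet ?_ ?_ ?_
    · intro D hD
      rw [Matrix.det_diagonal, Finset.prod_ne_zero_iff] at hD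
      choose u hu using fun i => hlift (D i) (hD i (Finset.mem_univ _))
      refine ⟨Matrix.diagonal fun i => (u i : At), ?_, ?_⟩
      · rw [Matrix.det_diagonal]
        exact Finset.prod_induction _ IsUnit (fun _ _ => IsUnit.mul) isUnit_one fun i _ => (u i).isUnit
      · rw [Matrix.diagonal_map (map_zero φ)]
        simp [Function.comp_def, hu]
    · rintro ⟨i, j, hij, c⟩
      obtain ⟨c', rfl⟩ := hsurj c
      refine ⟨Matrix.transvection i j c', by rw [Matrix.det_transvection_of_ne i j hij]; exact isUnit_one, ?_⟩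
      ext k l
      simp only [Matrix.TransvectionStruct.toMatrix_mk, Matrix.transvection, Matrix.map_apply,
        Matrix.add_apply, Matrix.one_apply, Matrix.single_apply, map_add]
      split_ifs <;> simp
    · rintro S T - - ⟨S', hS', rfl⟩ ⟨T', hT', rfl⟩
      exact ⟨S' * T', by rw [Matrix.det_mul]; exact hS'.mul hT', Matrix.map_mul⟩
  let b' : Module.Basis J At MT := b.map (Matrix.toLinearEquiv b G' hG')
  have hb' : ∀ j, b' j = ∑ i, G' i j • b i := fun j => by
    simp [b', Matrix.toLin_self]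
  let mT : Submodule A MT := 𝔪 • ⊤
  have hx : ∀ j, ι (z j) - b' j ∈ mT := fun j => by
    rw [hb', ← b.sum_repr (ι (z j)), ← Finset.sum_sub_distrib]
    refine sum_mem fun i _ => ?_
    rw [← sub_smul]
    refine hker _ ?_ _
    rw [map_sub, sub_eq_zero]
    exact (congrFun (congrFun hG'φ i) j).symm
  -- the submodule `S`
  let O : Subalgebra A At :=
    { carrier := {t | Bd At ⊤ t}
      mul_mem' := Bd.mul
      add_mem' := Bd.add
      algebraMap_mem' := fun r => Bd.algebraMap_C (Submodule.mem_top) }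
  let mO : Ideal O :=
    { carrier := {o | Bd At 𝔪 (o : At)}
      zero_mem' := Bd.zero _
      add_mem' := Bd.add
      smul_mem' := fun c o ho => by
        show Bd At 𝔪 ((c : At) * (o : At))
        rw [mul_comm]
        exact Bd.mul ho c.2 }
  let Λ : (J → O) →ₗ[A] MT :=
    { toFun := fun o => ∑ i, (o i : At) • b' i
      map_add' := fun o o' => by simp [add_smul, Finset.sum_add_distrib]
      map_smul' := fun r o => by simp [Finset.smul_sum, smul_assoc] }
  let ιA : M →ₗ[A] MT := ι.restrictScalars A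
  let S : Submodule A MT := LinearMap.range ιA ⊔ LinearMap.range Λ
  have hdec : ∀ t : At, ∃ (h : A[X]) (o : O), t = algebraMap A[X] At h + o := fun t => by
    obtain ⟨⟨p, q⟩, hpq⟩ := IsLocalization.surj (monics A) t
    refine ⟨p /ₘ (q : A[X]), ⟨t - algebraMap A[X] At (p /ₘ (q : A[X])),
      p %ₘ (q : A[X]), q, q.2, natDegree_modByMonic_le p (mem_monics.1 q.2), ?_, ?_⟩, by simp⟩
    · rw [Ideal.map_top]; trivial
    · rw [sub_mul, hpq, ← map_mul, ← map_sub, mul_comm (p /ₘ (q : A[X]))]
      congr 1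
      rw [modByMonic_eq_sub_mul_div]
  have hLmem : ∀ (o : O) (i : J), (o : At) • b' i ∈ LinearMap.range Λ := fun o i =>
    ⟨Pi.single i o, by
      show ∑ l, ((Pi.single i o : J → O) l : At) • b' l = _
      rw [Finset.sum_eq_single i (fun l _ hl => by simp [hl]) (by simp)]
      simp⟩
  have hS2 : S ⊔ mT = ⊤ := by
    refine eq_top_iff.2 fun x _ => ?_
    rw [← b'.sum_repr x]
    refine sum_mem fun i _ => ?_
    obtain ⟨h, o, ho⟩ := hdec (b'.repr x i)
    rw [ho, add_smul, algebraMap_smul]
    refine add_mem ?_ (Submodule.mem_sup_left (Submodule.mem_sup_right (hLmem o i)))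
    have : h • b' i = ι (h • z i) - h • (ι (z i) - b' i) := by rw [map_smul, smul_sub, sub_sub_cancel]
    rw [this]
    refine sub_mem (Submodule.mem_sup_left (Submodule.mem_sup_left ⟨h • z i, rfl⟩)) (Submodule.mem_sup_right ?_)
    refine Submodule.smul_induction_on (hx i) (fun r hr n _ => ?_) (fun a c ha hc => ?_)
    · rw [smul_comm]; exact Submodule.smul_mem_smul hr trivial
    · rw [smul_add]; exact add_mem ha hc
  choose qi hqi using fun i => IsLocalizedModule.surj (monics A) ι (b' i)
  have hS1 : S ⊔ Submodule.span A (Set.range fun p : (i : J) × Fin ((qi i).2 : A[X]).natDegree =>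
      (X : A[X]) ^ (p.2 : ℕ) • b' p.1) = ⊤ := by
    refine eq_top_iff.2 fun x _ => ?_
    rw [← b'.sum_repr x]
    refine sum_mem fun i _ => ?_
    obtain ⟨h, o, ho⟩ := hdec (b'.repr x i)
    rw [ho, add_smul, algebraMap_smul]
    refine add_mem ?_ (Submodule.mem_sup_left (Submodule.mem_sup_right (hLmem o i)))
    refine (sup_le_sup_left (Submodule.span_mono ?_) S) (mem_sup_span_powers S (mem_monics.1 (qi i).2.2) (b' i)
      (fun g => Submodule.mem_sup_left ⟨g • (qi i).1, ?_⟩) h)
    · rintro - ⟨j, rfl⟩; exact ⟨⟨i, j⟩, rfl⟩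
    · show ι (g • (qi i).1) = _
      rw [map_smul, mul_smul, ← hqi i]
      rfl
  have naka : ∀ {Y : Type u} [AddCommGroup Y] [Module A Y] (S : Submodule A Y) (T : Submodule A Y),
      T.FG → S ⊔ T = ⊤ → S ⊔ 𝔪 • ⊤ = ⊤ → S = ⊤ := by
    intro Y _ _ S T hT h1 h2
    have hfg : (⊤ : Submodule A (Y ⧸ S)).FG := by
      rw [← S.range_mkQ, ← Submodule.map_top, ← h1, Submodule.map_sup, Submodule.mkQ_map_self, bot_sup_eq]
      exact hT.map _
    have h3 : (⊤ : Submodule A (Y ⧸ S)) ≤ ⊥ ⊔ 𝔪 • ⊤ := by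
      rw [← S.range_mkQ, ← Submodule.map_top, ← Submodule.map_smul'', bot_sup_eq]
      conv_lhs => rw [← h2, Submodule.map_sup, Submodule.mkQ_map_self, bot_sup_eq]
    have h4 := Submodule.le_of_le_smul_of_le_jacobson_bot hfg (IsLocalRing.maximalIdeal_le_jacobson _) h3
    refine eq_top_iff.2 fun y _ => ?_
    rw [← Submodule.Quotient.mk_eq_zero]
    exact (Submodule.mem_bot A).1 (h4 trivial)
  have hStop : S = ⊤ := naka S _ (Submodule.fg_span (Set.finite_range _)) hS1 hS2
  -- the corrected generators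
  have hmL : ∀ y ∈ 𝔪 • LinearMap.range Λ, ∃ o : J → O, (∀ i, o i ∈ mO) ∧ Λ o = y := by
    intro y hy
    refine Submodule.smul_induction_on hy ?_ ?_
    · rintro r hr n ⟨o, rfl⟩
      refine ⟨r • o, fun i => ?_, map_smul _ _ _⟩
      show Bd At 𝔪 (r • (o i : At))
      rw [Algebra.smul_def]
      exact Bd.smul_C hr (o i).2
    · rintro x y ⟨o, ho, rfl⟩ ⟨o', ho', rfl⟩
      exact ⟨o + o', fun i => add_mem (ho i) (ho' i), map_add _ _ _⟩
  have hsplit : ∀ j, ∃ μ ∈ (𝔪 • ⊤ : Submodule A M), ∃ o : J → O, (∀ i, o i ∈ mO) ∧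
      ι (z j - μ) = b' j + Λ o := by
    intro j
    have h := hx j
    rw [show mT = 𝔪 • S by rw [hStop], Submodule.smul_sup, ← Submodule.map_top ιA,
      ← Submodule.map_smul''] at h
    obtain ⟨-, ⟨μ, hμ, rfl⟩, c, hc, hsum⟩ := Submodule.mem_sup.1 h
    obtain ⟨o, ho, rfl⟩ := hmL c hc
    refine ⟨μ, hμ, o, ho, ?_⟩
    have hsum' : ι μ + Λ o = ι (z j) - b' j := hsum
    rw [map_sub]
    linear_combination (norm := module) -hsum'
  choose μ hμ o ho he using hsplit
  let N' : Matrix J J O := 1 + Matrix.of fun i j => o j i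
  have hdet : IsUnit (N'.map O.val).det := by
    have h0 : N'.map (Ideal.Quotient.mk mO) = 1 := by
      ext i j
      simp only [N']
      rw [Matrix.map_apply, Matrix.add_apply, map_add, Matrix.of_apply,
        Ideal.Quotient.eq_zero_iff_mem.2 (ho j i), add_zero, Matrix.one_apply, Matrix.one_apply]
      split_ifs <;> simp
    have h1 : N'.det - 1 ∈ mO := by
      rw [← Ideal.Quotient.eq, map_one, RingHom.map_det, RingHom.mapMatrix_apply, h0, Matrix.det_one]
    rw [← AlgHom.mapMatrix_apply, ← AlgHom.map_det]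
    have := Bd.isUnit_one_add (show Bd At 𝔪 ((N'.det - 1 : O) : At) from h1)
    simpa using this
  let b'' : Module.Basis J At MT := b'.map (Matrix.toLinearEquiv b' (N'.map O.val) hdet)
  have hb'' : ∀ j, b'' j = ι (z j - μ j) := fun j => by
    rw [he]
    simp only [b'', Module.Basis.map_apply, Matrix.toLinearEquiv_apply, Matrix.toLin_self, N', Matrix.map_apply,
      Matrix.add_apply, map_add, add_smul, Finset.sum_add_distrib, Matrix.of_apply]
    congr 1
    rw [Finset.sum_eq_single j (fun l _ hl => by simp [hl]) (by simp)]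
    simp
  let ev : J → M := fun j => z j - μ j
  have hli : LinearIndependent A[X] ev := by
    refine LinearIndependent.of_comp ι ?_
    rw [show ι ∘ ev = b'' from funext fun j => (hb'' j).symm]
    exact b''.linearIndependent.restrict_scalars (fun p q h => IsLocalization.injective At
      (fun f hf => (mem_monics.1 hf).mem_nonZeroDivisors)
      (by simpa [Algebra.smul_def] using h))
  let R0 : Submodule A[X] M := Submodule.span A[X] (Set.range ev)
  have hkill : ∀ w : M, ∃ q : monics A, (q : A[X]) • w ∈ R0 := fun w => by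
    obtain ⟨q, hq⟩ := IsLocalization.exist_integer_multiples (monics A) Finset.univ (fun i => b''.repr (ι w) i)
    choose p hp using fun i => hq i (Finset.mem_univ _)
    refine ⟨q, ?_⟩
    have : (q : A[X]) • w = ∑ i, p i • ev i := by
      refine hιinj ?_
      rw [map_smul, map_sum, ← b''.sum_repr (ι w), Finset.smul_sum]
      refine Finset.sum_congr rfl fun i _ => ?_
      rw [map_smul, ← hb'', ← algebraMap_smul At (p i), hp, smul_assoc]
    rw [this]
    exact sum_mem fun i _ => Submodule.smul_mem _ _ (Submodule.subset_span ⟨i, rfl⟩)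
  let RA : Submodule A M := R0.restrictScalars A
  have hR2 : RA ⊔ 𝔪 • ⊤ = ⊤ := by
    refine eq_top_iff.2 fun w _ => ?_
    have hzmem : ∀ j, z j ∈ RA ⊔ 𝔪 • ⊤ := fun j => by
      rw [← sub_add_cancel (z j) (μ j)]
      exact add_mem (Submodule.mem_sup_left (Submodule.subset_span ⟨j, rfl⟩)) (Submodule.mem_sup_right (hμ j))
    obtain ⟨g, hg⟩ : ∃ g, (Ideal.Quotient.mk P ∘ g) = fun i => cN.repr ((1 : A[X] ⧸ P) ⊗ₜ[A[X]] w) i :=
      ⟨fun i => (Ideal.Quotient.mk_surjective (cN.repr ((1 : A[X] ⧸ P) ⊗ₜ[A[X]] w) i)).choose,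
        funext fun i => (Ideal.Quotient.mk_surjective (cN.repr ((1 : A[X] ⧸ P) ⊗ₜ[A[X]] w) i)).choose_spec⟩
    have hdiff : (1 : A[X] ⧸ P) ⊗ₜ[A[X]] (w - ∑ i, g i • z0 i) = (0 : N) := by
      rw [tmul_sub, tmul_sum]
      conv_lhs => rw [← cN.sum_repr ((1 : A[X] ⧸ P) ⊗ₜ[A[X]] w)]
      rw [sub_eq_zero]
      refine Finset.sum_congr rfl fun i _ => ?_
      rw [tmul_smul, ← congrFun hg i, Function.comp_apply, ← Ideal.Quotient.algebraMap_eq, algebraMap_smul,
        ← hz0 i]
      rfl
    have hmem : w - ∑ i, g i • z0 i ∈ (P • ⊤ : Submodule A[X] M) := by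
      have h := congrArg (TensorProduct.quotTensorEquivQuotSMul M P) hdiff
      rw [map_zero] at h
      rw [← Submodule.Quotient.mk_eq_zero]
      rw [show (1 : A[X] ⧸ P) = Ideal.Quotient.mk P 1 from rfl, TensorProduct.quotTensorEquivQuotSMul_mk_tmul,
        one_smul] at h
      exact h
    rw [← sub_add_cancel w (∑ i, g i • z0 i)]
    refine add_mem (Submodule.mem_sup_right ?_) (sum_mem fun i _ => ?_)
    · refine Submodule.smul_induction_on hmem (fun p hp y _ => smul_mem_of_mem_map_C hp y) fun _ _ => add_mem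
    · have hstab : ∀ (p : A[X]) (y : M), y ∈ RA ⊔ 𝔪 • ⊤ → p • y ∈ RA ⊔ 𝔪 • ⊤ := by
        intro p y hy
        obtain ⟨c, hc, d, hd, rfl⟩ := Submodule.mem_sup.1 hy
        rw [smul_add]
        refine add_mem (Submodule.mem_sup_left (R0.smul_mem p hc)) (Submodule.mem_sup_right ?_)
        refine Submodule.smul_induction_on hd (fun r hr n _ => ?_) (fun a c ha hc => ?_)
        · rw [smul_comm]; exact Submodule.smul_mem_smul hr trivial
        · rw [smul_add]; exact add_mem ha hc
      have := hstab (g i) _ (hzmem (ε i))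
      simpa [z] using this
  obtain ⟨T, hT⟩ := Module.Finite.fg_top (R := A[X]) (M := M)
  choose qT hqT using hkill
  have hR1 : RA ⊔ Submodule.span A (Set.range fun p : (w : T) × Fin (qT w.1 : A[X]).natDegree =>
      (X : A[X]) ^ (p.2 : ℕ) • (p.1 : M)) = ⊤ := by
    refine eq_top_iff.2 fun w _ => ?_
    have hw : w ∈ Submodule.span A[X] (T : Set M) := by rw [hT]; trivial
    rw [Submodule.mem_span_finset'] at hw
    obtain ⟨f, rfl⟩ := hw
    refine sum_mem fun x _ => ?_
    refine (sup_le_sup_left (Submodule.span_mono ?_) RA) (mem_sup_span_powers RA (mem_monics.1 (qT x.1).2) (x : M)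
      (fun g => ?_) (f x))
    · rintro - ⟨j, rfl⟩; exact ⟨⟨x, j⟩, rfl⟩
    · rw [mul_smul]; exact R0.smul_mem g (hqT _)
  have hRtop : RA = ⊤ := naka RA _ (Submodule.fg_span (Set.finite_range _)) hR1 hR2
  exact Module.Free.of_basis (Module.Basis.mk hli (fun w _ => show w ∈ RA by rw [hRtop]; trivial))

end Main

end Groth.Agent.H22.Horrocks
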