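import Groth.Agent.H22.Horrocks.Idem
import Mathlib

/-!
Idempotent matrices: glueing, freeness over local rings, clearing denominators.
-/

set_option autoImplicit false
set_option maxHeartbeats 1000000
universe u

open TensorProduct

namespace Groth.Agent.H22.Horrocks

variable {R S : Type u} [CommRing R] [CommRing S] {m n : ℕ}

/-- The presentation of the image of an idempotent matrix. -/
noncomputable def Pres.ofIdem (f : Matrix (Fin n) (Fin n) R) (hf : f * f = f) :
    Pres R (LinearMap.range (Matrix.toLin' f)) where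
  n := n
  π := (Matrix.toLin' f).rangeRestrict
  σ := (LinearMap.range (Matrix.toLin' f)).subtype
  hπσ := by
    rintro ⟨x, y, rfl⟩
    refine Subtype.ext ?_
    show Matrix.toLin' f (Matrix.toLin' f y) = _
    rw [← LinearMap.comp_apply, ← Matrix.toLin'_mul, hf]

theorem Pres.ofIdem_e (f : Matrix (Fin n) (Fin n) R) (hf : f * f = f) : (Pres.ofIdem f hf).e = f :=
  LinearMap.toMatrix'_toLin' f

variable {M : Type u} [AddCommGroup M] [Module R M]

theorem Pres.projective (P : Pres R M) : Module.Projective R M :=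
  Module.Projective.of_split P.σ P.π (LinearMap.ext P.hπσ)

theorem Pres.finite (P : Pres R M) : Module.Finite R M :=
  Module.Finite.of_surjective P.π fun x => ⟨_, P.hπσ x⟩

theorem Pres.exists_eqv_one (P : Pres R M) [Module.Free R M] :
    ∃ k : ℕ, Eqv P.e (1 : Matrix (Fin k) (Fin k) R) := by
  haveI := P.finite
  classical
  let b := Module.Free.chooseBasis R M
  let θ : M ≃ₗ[R] (Fin (Fintype.card (Module.Free.ChooseBasisIndex R M)) → R) :=
    (b.reindex (Fintype.equivFin _)).equivFun
  refine ⟨Fintype.card (Module.Free.ChooseBasisIndex R M), ?_⟩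
  have h := P.eqv_of_linearEquiv (Pres.std R _) θ
  rw [Pres.std_e] at h
  exact h

theorem Pres.free_of_eqv_one (P : Pres R M) {k : ℕ} (h : Eqv P.e (1 : Matrix (Fin k) (Fin k) R)) :
    Module.Free R M := by
  have h' : Eqv P.e (Pres.std R k).e := by rw [Pres.std_e]; exact h
  exact (P.nonempty_linearEquiv (Pres.std R k) h').elim fun θ => Module.Free.of_equiv θ.symm

theorem exists_eqv_one_of_isLocalRing [IsLocalRing R] {f : Matrix (Fin n) (Fin n) R} (hf : f * f = f) :
    ∃ k : ℕ, Eqv f (1 : Matrix (Fin k) (Fin k) R) := by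
  let P := Pres.ofIdem f hf
  haveI := P.projective
  haveI := P.finite
  haveI : Module.Free R (LinearMap.range (Matrix.toLin' f)) := Module.free_of_flat_of_isLocalRing
  obtain ⟨k, hk⟩ := P.exists_eqv_one
  rw [Pres.ofIdem_e] at hk
  exact ⟨k, hk⟩

theorem map_one' {ι : Type*} [DecidableEq ι] (φ : R →+* S) : (1 : Matrix ι ι R).map φ = 1 :=
  Matrix.map_one φ (map_zero φ) (map_one φ)

theorem map_map' {T : Type u} [CommRing T] {p q : Type*} (φ : R →+* S) (ψ : S →+* T)
    (f : Matrix p q R) : (f.map φ).map ψ = f.map (ψ.comp φ) := by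
  rw [Matrix.map_map, ← RingHom.coe_comp]

theorem map_idem' (φ : R →+* S) {f : Matrix (Fin n) (Fin n) R} (hf : f * f = f) :
    f.map φ * f.map φ = f.map φ := by
  rw [← Matrix.map_mul, hf]

theorem exists_map_eq_smul (T : Submonoid R) (S : Type u) [CommRing S] [Algebra R S] [IsLocalization T S]
    (a : Matrix (Fin m) (Fin n) S) :
    ∃ t : T, ∃ a' : Matrix (Fin m) (Fin n) R, a'.map (algebraMap R S) = algebraMap R S t • a := by
  classical
  obtain ⟨t, ht⟩ := IsLocalization.exist_integer_multiples T (Finset.univ : Finset (Fin m × Fin n))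
    (fun p => a p.1 p.2)
  choose a' ha' using fun i j => ht (i, j) (Finset.mem_univ _)
  refine ⟨t, Matrix.of a', ?_⟩
  ext i j
  rw [Matrix.map_apply, Matrix.smul_apply, smul_eq_mul, ← Algebra.smul_def]
  exact ha' i j

theorem exists_smul_eq_of_map_eq (T : Submonoid R) (S : Type u) [CommRing S] [Algebra R S]
    [IsLocalization T S] {a b : Matrix (Fin m) (Fin n) R}
    (h : a.map (algebraMap R S) = b.map (algebraMap R S)) : ∃ t : T, (t : R) • a = (t : R) • b := by
  classical
  choose t ht using fun p : Fin m × Fin n => IsLocalization.exists_of_eq (M := T) (congrFun (congrFun h p.1) p.2)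
  refine ⟨∏ p, t p, ?_⟩
  ext i j
  obtain ⟨c, hc⟩ : (t (i, j) : R) ∣ (∏ p, t p : T) :=
    map_dvd T.subtype (Finset.dvd_prod_of_mem t (Finset.mem_univ (i, j)))
  rw [Matrix.smul_apply, Matrix.smul_apply, smul_eq_mul, smul_eq_mul, hc, mul_right_comm, ht,
    mul_right_comm]

theorem exists_of_eqv_map (T : Submonoid R) (S : Type u) [CommRing S] [Algebra R S] [IsLocalization T S]
    {e : Matrix (Fin m) (Fin m) R} {f : Matrix (Fin n) (Fin n) R}
    (h : Eqv (e.map (algebraMap R S)) (f.map (algebraMap R S))) :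
    ∃ t ∈ T, ∃ (a : Matrix (Fin m) (Fin n) R) (b : Matrix (Fin n) (Fin m) R),
      a * b = t • e ∧ b * a = t • f := by
  obtain ⟨a, b, hab, hba⟩ := h
  obtain ⟨t1, a1, ha1⟩ := exists_map_eq_smul T S a
  obtain ⟨t2, b1, hb1⟩ := exists_map_eq_smul T S b
  have h3 : (a1 * b1).map (algebraMap R S) = (((t1 : R) * t2) • e).map (algebraMap R S) := by
    rw [Matrix.map_mul, ha1, hb1, Matrix.smul_mul, Matrix.mul_smul, hab, smul_smul, ← map_mul]
    ext i j
    simp [smul_eq_mul]
  have h4 : (b1 * a1).map (algebraMap R S) = (((t1 : R) * t2) • f).map (algebraMap R S) := by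
    rw [Matrix.map_mul, ha1, hb1, Matrix.smul_mul, Matrix.mul_smul, hba, smul_smul, ← map_mul,
      mul_comm (t2 : R)]
    ext i j
    simp [smul_eq_mul]
  obtain ⟨t3, ht3⟩ := exists_smul_eq_of_map_eq T S h3
  obtain ⟨t4, ht4⟩ := exists_smul_eq_of_map_eq T S h4
  refine ⟨((t3 : R) * t4) * ((t3 : R) * t4) * (t1 * t2), ?_, ((t3 : R) * t4) • a1, ((t3 : R) * t4) • b1, ?_, ?_⟩
  · exact mul_mem (mul_mem (mul_mem t3.2 t4.2) (mul_mem t3.2 t4.2)) (mul_mem t1.2 t2.2)
  · rw [Matrix.smul_mul, Matrix.mul_smul, smul_smul]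
    calc ((t3 : R) * t4 * (t3 * t4)) • (a1 * b1) = ((t3 : R) * t4 * t4) • ((t3 : R) • (a1 * b1)) := by
          rw [smul_smul]; ring_nf
      _ = _ := by rw [ht3, smul_smul, smul_smul]; ring_nf
  · rw [Matrix.smul_mul, Matrix.mul_smul, smul_smul]
    calc ((t3 : R) * t4 * (t3 * t4)) • (b1 * a1) = ((t3 : R) * t3 * t4) • ((t4 : R) • (b1 * a1)) := by
          rw [smul_smul]; ring_nf
      _ = _ := by rw [ht4, smul_smul, smul_smul]; ring_nf

theorem eqv_map_of_smul (φ : R →+* S) {t : R} (ht : IsUnit (φ t)) {e : Matrix (Fin m) (Fin m) R}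
    {f : Matrix (Fin n) (Fin n) R} {a : Matrix (Fin m) (Fin n) R} {b : Matrix (Fin n) (Fin m) R}
    (hab : a * b = t • e) (hba : b * a = t • f) : Eqv (e.map φ) (f.map φ) := by
  obtain ⟨u, hu⟩ := ht
  refine ⟨(↑u⁻¹ : S) • a.map φ, b.map φ, ?_, ?_⟩
  · rw [Matrix.smul_mul, ← Matrix.map_mul, hab]
    ext i j
    simp [smul_eq_mul, ← hu]
  · rw [Matrix.mul_smul, ← Matrix.map_mul, hba]
    ext i j
    simp [smul_eq_mul, ← hu]

theorem smul_map' {p q : Type*} (φ : R →+* S) (r : R) (a : Matrix p q R) :
    (r • a).map φ = φ r • a.map φ := by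
  ext i j
  simp only [Matrix.map_apply, Matrix.smul_apply, smul_eq_mul, map_mul]

/-- Glueing `f` on `x ≠ 0` and `e` on `y ≠ 0` along `α, β`. -/
noncomputable def glue (x y c d : R) (e : Matrix (Fin n) (Fin n) R) (f : Matrix (Fin m) (Fin m) R)
    (α : Matrix (Fin n) (Fin m) R) (β : Matrix (Fin m) (Fin n) R) :
    Matrix (Fin (m + n)) (Fin (m + n)) R :=
  Matrix.reindex finSumFinEquiv finSumFinEquiv
    (Matrix.fromBlocks ((c * x) • f) (c • β) (d • α) ((d * y) • e))

section Glue

variable {x y c d : R} {e : Matrix (Fin n) (Fin n) R} {f : Matrix (Fin m) (Fin m) R}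
  {α : Matrix (Fin n) (Fin m) R} {β : Matrix (Fin m) (Fin n) R}

structure GlueData (x y c d : R) (e : Matrix (Fin n) (Fin n) R) (f : Matrix (Fin m) (Fin m) R)
    (α : Matrix (Fin n) (Fin m) R) (β : Matrix (Fin m) (Fin n) R) : Prop where
  cd : c * x + d * y = 1
  he : e * e = e
  hf : f * f = f
  eα : e * α = α
  αf : α * f = α
  fβ : f * β = β
  βe : β * e = β
  αβ : α * β = (x * y) • e
  βα : β * α = (x * y) • f

theorem GlueData.glue_idem (G : GlueData x y c d e f α β) :
    glue x y c d e f α β * glue x y c d e f α β = glue x y c d e f α β := by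
  simp only [glue, Matrix.reindex_apply, Matrix.submatrix_mul_equiv, Matrix.fromBlocks_multiply,
    Matrix.smul_mul, Matrix.mul_smul, G.he, G.hf, G.eα, G.αf, G.fβ, G.βe, G.αβ, G.βα, smul_smul,
    ← add_smul]
  congr 2
  · congr 1; linear_combination (c * x) * G.cd
  · congr 1; linear_combination c * G.cd
  · congr 1; linear_combination d * G.cd
  · congr 1; linear_combination (d * y) * G.cd

theorem GlueData.eqv_left (G : GlueData x y c d e f α β) (φ : R →+* S) (hx : IsUnit (φ x)) :
    Eqv ((glue x y c d e f α β).map φ) (f.map φ) := by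
  obtain ⟨u, hu⟩ := hx
  refine ⟨((Matrix.fromRows ((c * x) • f) (d • α)).map φ).submatrix finSumFinEquiv.symm id,
    ((Matrix.fromCols (f.map φ) ((↑u⁻¹ : S) • β.map φ))).submatrix id finSumFinEquiv.symm, ?_, ?_⟩
  · rw [glue, Matrix.reindex_apply, ← Matrix.submatrix_map]
    rw [← Matrix.submatrix_mul _ _ _ _ _ Function.bijective_id]
    congr 1
    rw [Matrix.fromRows_map, Matrix.fromRows_mul_fromCols, Matrix.fromBlocks_map]
    congr 1
    · rw [← Matrix.map_mul, Matrix.smul_mul, G.hf]
    · rw [Matrix.mul_smul, ← Matrix.map_mul, Matrix.smul_mul, G.fβ]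
      simp only [smul_map', smul_smul, map_mul, ← hu]
      congr 1
      first | linear_combination (φ c) * (Units.inv_mul u) | linear_combination (φ d * φ y) * (Units.inv_mul u) | linear_combination (φ c * φ x) * (Units.inv_mul u) | linear_combination (φ d) * (Units.inv_mul u)
    · rw [← Matrix.map_mul, Matrix.smul_mul, G.αf]
    · rw [Matrix.mul_smul, ← Matrix.map_mul, Matrix.smul_mul, G.αβ]
      simp only [smul_map', smul_smul, map_mul, ← hu]
      congr 1
      first | linear_combination (φ c) * (Units.inv_mul u) | linear_combination (φ d * φ y) * (Units.inv_mul u) | linear_combination (φ c * φ x) * (Units.inv_mul u) | linear_combination (φ d) * (Units.inv_mul u)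
  · rw [Matrix.submatrix_mul_equiv, Matrix.submatrix_id_id, Matrix.fromRows_map,
      Matrix.fromCols_mul_fromRows, Matrix.smul_mul, ← Matrix.map_mul, ← Matrix.map_mul,
      Matrix.mul_smul, Matrix.mul_smul, G.hf, G.βα]
    ext i j
    have h := congrArg φ G.cd
    simp only [map_add, map_mul, map_one] at h
    simp [smul_eq_mul, ← hu] at h ⊢
    linear_combination (φ (f i j)) * h + (φ d * φ y * φ (f i j)) * (Units.inv_mul u)

theorem GlueData.eqv_right (G : GlueData x y c d e f α β) (φ : R →+* S) (hy : IsUnit (φ y)) :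
    Eqv ((glue x y c d e f α β).map φ) (e.map φ) := by
  obtain ⟨u, hu⟩ := hy
  refine ⟨((Matrix.fromRows (c • β) ((d * y) • e)).map φ).submatrix finSumFinEquiv.symm id,
    ((Matrix.fromCols ((↑u⁻¹ : S) • α.map φ) (e.map φ))).submatrix id finSumFinEquiv.symm, ?_, ?_⟩
  · rw [glue, Matrix.reindex_apply, ← Matrix.submatrix_map]
    rw [← Matrix.submatrix_mul _ _ _ _ _ Function.bijective_id]
    congr 1
    rw [Matrix.fromRows_map, Matrix.fromRows_mul_fromCols, Matrix.fromBlocks_map]
    congr 1
    · rw [Matrix.mul_smul, ← Matrix.map_mul, Matrix.smul_mul, G.βα]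
      simp only [smul_map', smul_smul, map_mul, ← hu]
      congr 1
      first | linear_combination (φ c) * (Units.inv_mul u) | linear_combination (φ d * φ y) * (Units.inv_mul u) | linear_combination (φ c * φ x) * (Units.inv_mul u) | linear_combination (φ d) * (Units.inv_mul u)
    · rw [← Matrix.map_mul, Matrix.smul_mul, G.βe]
    · rw [Matrix.mul_smul, ← Matrix.map_mul, Matrix.smul_mul, G.eα]
      simp only [smul_map', smul_smul, map_mul, ← hu]
      congr 1
      first | linear_combination (φ c) * (Units.inv_mul u) | linear_combination (φ d * φ y) * (Units.inv_mul u) | linear_combination (φ c * φ x) * (Units.inv_mul u) | linear_combination (φ d) * (Units.inv_mul u)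
    · rw [← Matrix.map_mul, Matrix.smul_mul, G.he]
  · rw [Matrix.submatrix_mul_equiv, Matrix.submatrix_id_id, Matrix.fromRows_map,
      Matrix.fromCols_mul_fromRows, Matrix.smul_mul, ← Matrix.map_mul, ← Matrix.map_mul,
      Matrix.mul_smul, Matrix.mul_smul, G.he, G.αβ]
    ext i j
    have h := congrArg φ G.cd
    simp only [map_add, map_mul, map_one] at h
    simp [smul_eq_mul, ← hu] at h ⊢
    linear_combination (φ (e i j)) * h + (φ c * φ x * φ (e i j)) * (Units.inv_mul u)

end Glue

end Groth.Agent.H22.Horrocks
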