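import Groth.Agent.H22.Horrocks.Patch
import Groth.Agent.H22.Horrocks.Tools
import Groth.Agent.H22.Horrocks.Local
import Mathlib

/-!
Horrocks' theorem over an arbitrary ring.
-/

set_option autoImplicit false
set_option maxHeartbeats 1000000
universe u

open Polynomial TensorProduct

namespace Groth.Agent.H22.Horrocks

variable {A : Type u} [CommRing A] {n : ℕ}

theorem exists_eqv_one_of_monicLocalization [IsLocalRing A] {e : Matrix (Fin n) (Fin n) A[X]} (he : e * e = e)
    (At : Type u) [CommRing At] [Algebra A[X] At] [IsLocalization (monics A) At]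
    (h : ∃ r : ℕ, Eqv (e.map (algebraMap A[X] At)) (1 : Matrix (Fin r) (Fin r) At)) :
    ∃ r : ℕ, Eqv e (1 : Matrix (Fin r) (Fin r) A[X]) := by
  obtain ⟨r, hr⟩ := h
  let P := Pres.ofIdem e he
  haveI := P.projective
  haveI := P.finite
  haveI : Module.Free At (TensorProduct A[X] At (LinearMap.range (Matrix.toLin' e))) := by
    refine (P.baseChange At).free_of_eqv_one (k := r) ?_
    rw [Pres.baseChange_e, Pres.ofIdem_e]
    exact hr
  haveI := free_of_free_monicLocalization (A := A) (LinearMap.range (Matrix.toLin' e)) At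
  obtain ⟨k, hk⟩ := P.exists_eqv_one
  rw [Pres.ofIdem_e] at hk
  exact ⟨k, hk⟩

variable (A) in
/-- The map to the monic localisation at a maximal ideal. -/
noncomputable def toMonLoc (m : Ideal A) [m.IsPrime] :
    A[X] →+* Localization (monics (Localization.AtPrime m)) :=
  (algebraMap (Localization.AtPrime m)[X] (Localization (monics (Localization.AtPrime m)))).comp
    (mapRingHom (algebraMap A (Localization.AtPrime m)))

theorem isUnit_toMonLoc (m : Ideal A) [m.IsPrime] {q : A[X]} (hq : q.Monic) : IsUnit (toMonLoc A m q) :=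
  IsLocalization.map_units (Localization (monics (Localization.AtPrime m)))
    (⟨q.map (algebraMap A (Localization.AtPrime m)), hq.map _⟩ : monics (Localization.AtPrime m))

theorem exists_eqv_one_toMonLoc_C (m : Ideal A) [m.IsPrime] {f : Matrix (Fin n) (Fin n) A} (hf : f * f = f) :
    ∃ r : ℕ, Eqv ((f.map C).map (toMonLoc A m))
      (1 : Matrix (Fin r) (Fin r) (Localization (monics (Localization.AtPrime m)))) := by
  obtain ⟨r, hr⟩ := exists_eqv_one_of_isLocalRing (map_idem' (algebraMap A (Localization.AtPrime m)) hf)
  refine ⟨r, ?_⟩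
  have h := hr.map ((algebraMap (Localization.AtPrime m)[X] (Localization (monics (Localization.AtPrime m)))).comp C)
  rw [map_one'] at h
  convert h using 2
  ext i j
  simp [toMonLoc]

attribute [local instance] Polynomial.algebra

/-- A projective module over `A[X]` which is locally free at infinity is extended. -/
theorem extended {e : Matrix (Fin n) (Fin n) A[X]} (he : e * e = e)
    (hloc : ∀ m : Ideal A, [m.IsMaximal] → ∃ r : ℕ, Eqv (e.map (toMonLoc A m))
      (1 : Matrix (Fin r) (Fin r) (Localization (monics (Localization.AtPrime m))))) :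
    Eqv e (e.map (C.comp (evalRingHom 0))) := by
  refine patching e he fun m hm => ?_
  haveI := hm
  obtain ⟨r, hr⟩ := hloc m
  set φ := mapRingHom (algebraMap A (Localization.AtPrime m))
  have he' : e.map φ * e.map φ = e.map φ := map_idem' φ he
  rw [toMonLoc, ← map_map'] at hr
  obtain ⟨k, hk⟩ := exists_eqv_one_of_monicLocalization he' _ ⟨r, hr⟩
  have h0 : Eqv ((e.map φ).map (C.comp (evalRingHom 0))) (1 : Matrix (Fin k) (Fin k) _) := by
    have h := hk.map (C.comp (evalRingHom 0))
    rwa [map_one'] at h
  have h1 := hk.trans h0.symm he' (map_idem' _ he')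
  have hcomm : (e.map φ).map (C.comp (evalRingHom 0)) = (e.map (C.comp (evalRingHom 0))).map φ := by
    ext i j : 1
    simp [φ, ← coeff_zero_eq_eval_zero]
    exact (coeff_zero_eq_aeval_zero' _).symm
  rw [hcomm] at h1
  haveI : IsLocalization (Submonoid.map C m.primeCompl) (Localization.AtPrime m)[X] :=
    Polynomial.isLocalization m.primeCompl (Localization.AtPrime m)
  obtain ⟨t, ht, a, b, hab, hba⟩ := exists_of_eqv_map (Submonoid.map C m.primeCompl)
    (Localization.AtPrime m)[X] (e := e) (f := e.map (C.comp (evalRingHom 0))) h1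
  obtain ⟨s, hs, rfl⟩ := ht
  exact ⟨s, hs, a, b, hab, hba⟩

theorem eqv_eval_of_extended {e : Matrix (Fin n) (Fin n) A[X]}
    (h : Eqv e (e.map (C.comp (evalRingHom 0)))) (a : A) :
    Eqv (e.map (evalRingHom a)) (e.map (evalRingHom 0)) := by
  have h' := h.map (evalRingHom a)
  rwa [map_map', show (evalRingHom a).comp (C.comp (evalRingHom 0)) = evalRingHom 0 from
    RingHom.ext fun p => by simp] at h'

end Groth.Agent.H22.Horrocks
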