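import Mathlib

/-!
Finite projective modules as idempotent matrices up to equivalence.
-/

set_option autoImplicit false
universe u

open TensorProduct

namespace Groth.Agent.H22.Horrocks

variable {R S : Type u} [CommRing R] [CommRing S] {m n o : ℕ}

/-- Equivalence of idempotent matrices. -/
def Eqv (e : Matrix (Fin m) (Fin m) R) (f : Matrix (Fin n) (Fin n) R) : Prop :=
  ∃ (a : Matrix (Fin m) (Fin n) R) (b : Matrix (Fin n) (Fin m) R), a * b = e ∧ b * a = f

theorem Eqv.map {e : Matrix (Fin m) (Fin m) R} {f : Matrix (Fin n) (Fin n) R} (h : Eqv e f) (φ : R →+* S) :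
    Eqv (e.map φ) (f.map φ) := by
  obtain ⟨a, b, rfl, rfl⟩ := h
  exact ⟨a.map φ, b.map φ, Matrix.map_mul.symm, Matrix.map_mul.symm⟩

theorem Eqv.symm {e : Matrix (Fin m) (Fin m) R} {f : Matrix (Fin n) (Fin n) R} (h : Eqv e f) : Eqv f e := by
  obtain ⟨a, b, h1, h2⟩ := h
  exact ⟨b, a, h2, h1⟩

theorem Eqv.refl {e : Matrix (Fin m) (Fin m) R} (he : e * e = e) : Eqv e e := ⟨e, e, he, he⟩

theorem Eqv.trans {e : Matrix (Fin m) (Fin m) R} {f : Matrix (Fin n) (Fin n) R}
    {g : Matrix (Fin o) (Fin o) R} (h : Eqv e f) (h' : Eqv f g) (he : e * e = e) (hg : g * g = g) :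
    Eqv e g := by
  obtain ⟨a, b, h1, h2⟩ := h
  obtain ⟨c, d, h3, h4⟩ := h'
  refine ⟨a * c, d * b, ?_, ?_⟩
  · calc a * c * (d * b) = a * (c * d) * b := by simp only [Matrix.mul_assoc]
      _ = (a * b) * (a * b) := by rw [h3, ← h2]; simp only [Matrix.mul_assoc]
      _ = e := by rw [h1, he]
  · calc d * b * (a * c) = d * (b * a) * c := by simp only [Matrix.mul_assoc]
      _ = (d * c) * (d * c) := by rw [h2, ← h3]; simp only [Matrix.mul_assoc]
      _ = g := by rw [h4, hg]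

variable (R) in
/-- A presentation of a module as a retract of a finite free module. -/
structure Pres (M : Type u) [AddCommGroup M] [Module R M] where
  n : ℕ
  π : (Fin n → R) →ₗ[R] M
  σ : M →ₗ[R] (Fin n → R)
  hπσ : ∀ x, π (σ x) = x

variable {M N : Type u} [AddCommGroup M] [Module R M] [AddCommGroup N] [Module R N]

theorem exists_pres [Module.Finite R M] [Module.Projective R M] : Nonempty (Pres R M) := by
  obtain ⟨n, π, hπ⟩ := Module.Finite.exists_fin' R M
  obtain ⟨σ, hσ⟩ := Module.projective_lifting_property π LinearMap.id hπ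
  exact ⟨⟨n, π, σ, fun x => LinearMap.congr_fun hσ x⟩⟩

/-- The idempotent of a presentation. -/
noncomputable def Pres.e (P : Pres R M) : Matrix (Fin P.n) (Fin P.n) R := LinearMap.toMatrix' (P.σ ∘ₗ P.π)

theorem Pres.idem (P : Pres R M) : P.e * P.e = P.e := by
  rw [Pres.e, ← LinearMap.toMatrix'_comp]
  congr 1
  ext x
  simp [P.hπσ]

theorem Pres.eqv_of_linearEquiv (P : Pres R M) (Q : Pres R N) (θ : M ≃ₗ[R] N) : Eqv P.e Q.e := by
  refine ⟨LinearMap.toMatrix' (P.σ ∘ₗ θ.symm.toLinearMap ∘ₗ Q.π),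
    LinearMap.toMatrix' (Q.σ ∘ₗ θ.toLinearMap ∘ₗ P.π), ?_, ?_⟩ <;>
  · rw [Pres.e, ← LinearMap.toMatrix'_comp]
    congr 1
    ext x
    simp [P.hπσ, Q.hπσ]

theorem Pres.nonempty_linearEquiv (P : Pres R M) (Q : Pres R N) (h : Eqv P.e Q.e) : Nonempty (M ≃ₗ[R] N) := by
  obtain ⟨a, b, h1, h2⟩ := h
  have hσ : ∀ x, P.e.mulVec (P.σ x) = P.σ x := fun x => by
    rw [Pres.e, ← Matrix.toLin'_apply, Matrix.toLin'_toMatrix']
    simp [P.hπσ]
  have hσ' : ∀ x, Q.e.mulVec (Q.σ x) = Q.σ x := fun x => by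
    rw [Pres.e, ← Matrix.toLin'_apply, Matrix.toLin'_toMatrix']
    simp [Q.hπσ]
  have hP : ∀ v, P.σ (P.π v) = P.e.mulVec v := fun v => by
    rw [Pres.e, ← Matrix.toLin'_apply, Matrix.toLin'_toMatrix']
    rfl
  have hQ : ∀ v, Q.σ (Q.π v) = Q.e.mulVec v := fun v => by
    rw [Pres.e, ← Matrix.toLin'_apply, Matrix.toLin'_toMatrix']
    rfl
  refine ⟨LinearEquiv.ofLinearMap (Q.π ∘ₗ Matrix.toLin' b ∘ₗ P.σ) (P.π ∘ₗ Matrix.toLin' a ∘ₗ Q.σ)
    (LinearMap.ext fun x => ?_) (LinearMap.ext fun x => ?_)⟩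
  · simp only [LinearMap.comp_apply, Matrix.toLin'_apply, LinearMap.id_apply, hP, Matrix.mulVec_mulVec]
    have : b * (P.e * a) = Q.e * Q.e := by simp only [← h1, ← h2, Matrix.mul_assoc]
    rw [this, Q.idem, hσ', Q.hπσ]
  · simp only [LinearMap.comp_apply, Matrix.toLin'_apply, LinearMap.id_apply, hQ, Matrix.mulVec_mulVec]
    have : a * (Q.e * b) = P.e * P.e := by simp only [← h1, ← h2, Matrix.mul_assoc]
    rw [this, P.idem, hσ, P.hπσ]

variable (R) in
/-- The standard presentation. -/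
def Pres.std (n : ℕ) : Pres R (Fin n → R) := ⟨n, LinearMap.id, LinearMap.id, fun _ => rfl⟩

theorem Pres.std_e (n : ℕ) : (Pres.std R n).e = 1 := LinearMap.toMatrix'_id

/-- Base change of a presentation. -/
noncomputable def Pres.baseChange (P : Pres R M) (S : Type u) [CommRing S] [Algebra R S] : Pres S (S ⊗[R] M) where
  n := P.n
  π := P.π.baseChange S ∘ₗ (TensorProduct.piScalarRight R S S (Fin P.n)).symm.toLinearMap
  σ := (TensorProduct.piScalarRight R S S (Fin P.n)).toLinearMap ∘ₗ P.σ.baseChange S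
  hπσ x := by
    simp only [LinearMap.comp_apply, LinearEquiv.coe_coe, LinearEquiv.symm_apply_apply]
    rw [← LinearMap.comp_apply, ← LinearMap.baseChange_comp,
      show P.π ∘ₗ P.σ = LinearMap.id from LinearMap.ext P.hπσ, LinearMap.baseChange_id]
    rfl

theorem Pres.baseChange_e (P : Pres R M) (S : Type u) [CommRing S] [Algebra R S] :
    (P.baseChange S).e = P.e.map (algebraMap R S) := by
  ext (i : Fin P.n) (j : Fin P.n)
  have h1 : (TensorProduct.piScalarRight R S S (Fin P.n)).symm (Pi.single j 1) =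
      (1 : S) ⊗ₜ[R] Pi.single j (1 : R) :=
    (TensorProduct.piScalarRight R S S (Fin P.n)).injective (by ext l; simp [Pi.single_apply])
  show LinearMap.toMatrix' (((TensorProduct.piScalarRight R S S (Fin P.n)).toLinearMap ∘ₗ P.σ.baseChange S) ∘ₗ
    (P.π.baseChange S ∘ₗ (TensorProduct.piScalarRight R S S (Fin P.n)).symm.toLinearMap)) i j = _
  rw [LinearMap.toMatrix'_apply, Matrix.map_apply, Pres.e, LinearMap.toMatrix'_apply]
  simp only [LinearMap.comp_apply, LinearEquiv.coe_coe, h1]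
  simp [Algebra.algebraMap_eq_smul_one]

end Groth.Agent.H22.Horrocks
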