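import Groth.Agent.H22.Horrocks.Extended
import Mathlib.RingTheory.LaurentSeries
import Mathlib

/-!
Finite projective modules which become isomorphic over Laurent series are isomorphic.
-/

set_option autoImplicit false
set_option maxHeartbeats 1000000
universe u

open Polynomial

namespace Groth.Agent.H22.Horrocks

variable {A : Type u} [CommRing A] {n m : ℕ}

theorem exists_single_mul_eq (x : LaurentSeries A) : ∃ k : ℕ, ∀ l : ℕ, k ≤ l → ∃ g : PowerSeries A,
    HahnSeries.single (l : ℤ) 1 * x = HahnSeries.ofPowerSeries ℤ A g := by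
  refine ⟨x.order.natAbs, fun l hl => ⟨PowerSeries.X ^ ((l : ℤ) + x.order).toNat * x.powerSeriesPart, ?_⟩⟩
  conv_lhs => rw [← LaurentSeries.single_order_mul_powerSeriesPart x, ← mul_assoc, HahnSeries.single_mul_single,
    one_mul]
  rw [map_mul, HahnSeries.ofPowerSeries_X_pow, Int.toNat_of_nonneg (by omega)]

theorem eqv_of_laurentSeries {e : Matrix (Fin n) (Fin n) A} {f : Matrix (Fin m) (Fin m) A}
    (he : e * e = e) (hf : f * f = f)
    (h : Eqv (e.map (HahnSeries.C : A →+* LaurentSeries A)) (f.map (HahnSeries.C : A →+* LaurentSeries A))) :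
    Eqv e f := by
  classical
  set γ : A →+* LaurentSeries A := HahnSeries.C
  obtain ⟨a0, b0, hab0, hba0⟩ := h
  have heL := map_idem' γ he
  have hfL := map_idem' γ hf
  set a := a0 * f.map γ with ha
  set b := f.map γ * b0 with hb
  have hcomm : e.map γ * a0 = a0 * f.map γ := by rw [← hab0, ← hba0, Matrix.mul_assoc]
  have hab : a * b = e.map γ := by
    rw [ha, hb, Matrix.mul_assoc, ← Matrix.mul_assoc (f.map γ), hfL, ← hba0, ← Matrix.mul_assoc,
      ← Matrix.mul_assoc, hab0, Matrix.mul_assoc, hab0, heL]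
  have hba : b * a = f.map γ := by
    rw [ha, hb, Matrix.mul_assoc, ← Matrix.mul_assoc b0, hba0, hfL, hfL]
  have hea : e.map γ * a = a := by rw [ha, ← Matrix.mul_assoc, hcomm, Matrix.mul_assoc, hfL]
  have haf : a * f.map γ = a := by rw [ha, Matrix.mul_assoc, hfL]
  have hfb : f.map γ * b = b := by rw [hb, ← Matrix.mul_assoc, hfL]
  have hbe : b * e.map γ = b := by
    rw [← hab, ← Matrix.mul_assoc, hba, hfb]
  let U : Matrix (Fin n ⊕ Fin m) (Fin n ⊕ Fin m) (LaurentSeries A) :=
    Matrix.fromBlocks (1 - e.map γ) a b (1 - f.map γ)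
  have hUU : U * U = 1 := by
    simp only [U, Matrix.fromBlocks_multiply, Matrix.sub_mul, Matrix.mul_sub, Matrix.one_mul, Matrix.mul_one,
      hab, hba, hea, haf, hfb, hbe, heL, hfL]
    rw [← Matrix.fromBlocks_one]
    congr 1 <;> abel
  let P : Matrix (Fin n ⊕ Fin m) (Fin n ⊕ Fin m) A := Matrix.fromBlocks 0 0 0 f
  let Q : Matrix (Fin n ⊕ Fin m) (Fin n ⊕ Fin m) A := Matrix.fromBlocks e 0 0 0
  have hUP : U * P.map γ = Q.map γ * U := by
    simp [U, P, Q, Matrix.fromBlocks_map, Matrix.fromBlocks_multiply, Matrix.sub_mul, Matrix.mul_sub, heL,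
      hfL, hea, haf]
  -- clear denominators
  choose k hk using fun p : (Fin n ⊕ Fin m) × (Fin n ⊕ Fin m) => exists_single_mul_eq (U p.1 p.2)
  set l := ∑ p, k p
  choose U' hU' using fun i j => hk (i, j) l (Finset.single_le_sum (fun p _ => Nat.zero_le (k p)) (Finset.mem_univ _))
  set ι := HahnSeries.ofPowerSeries ℤ A
  have hιinj : Function.Injective ι := HahnSeries.ofPowerSeries_injective
  have hιC : ι.comp (PowerSeries.C) = γ := RingHom.ext fun r => HahnSeries.ofPowerSeries_C r
  have hU'map : (Matrix.of U').map ι = (HahnSeries.single (l : ℤ) (1 : A)) • U := by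
    ext i j : 1
    exact (hU' i j).symm
  have hU'U' : Matrix.of U' * Matrix.of U' = (PowerSeries.X : PowerSeries A) ^ (2 * l) • 1 := by
    refine Matrix.map_injective hιinj ?_
    show (Matrix.of U' * Matrix.of U').map ι = Matrix.map _ ι
    rw [Matrix.map_mul, hU'map, Matrix.smul_mul, Matrix.mul_smul, hUU, smul_smul, HahnSeries.single_mul_single,
      smul_map', map_one', HahnSeries.ofPowerSeries_X_pow, one_mul]
    congr 2
    push_cast
    ring
  have hU'P : Matrix.of U' * P.map PowerSeries.C = Q.map PowerSeries.C * Matrix.of U' := by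
    refine Matrix.map_injective hιinj ?_
    show (Matrix.of U' * P.map PowerSeries.C).map ι = Matrix.map _ ι
    rw [Matrix.map_mul, Matrix.map_mul, hU'map, map_map', map_map', hιC, Matrix.smul_mul, Matrix.mul_smul, hUP]
  -- truncate
  set j := 2 * l * Fintype.card (Fin n ⊕ Fin m)
  let U'' : Matrix (Fin n ⊕ Fin m) (Fin n ⊕ Fin m) A[X] := Matrix.of fun i i' => PowerSeries.trunc (j + 1) (U' i i')
  have hU''P : U'' * P.map C = Q.map C * U'' := by
    ext i i' d
    have := congrArg (PowerSeries.coeff d) (congrFun (congrFun hU'P i) i')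
    simp only [Matrix.mul_apply, Matrix.map_apply, Matrix.of_apply, map_sum, PowerSeries.coeff_mul_C,
      PowerSeries.coeff_C_mul] at this
    simp only [U'', Matrix.mul_apply, Matrix.map_apply, Matrix.of_apply, finsetSum_coeff, coeff_mul_C,
      coeff_C_mul, PowerSeries.coeff_trunc]
    split_ifs with hd
    · exact this
    · simp
  set d := U''.det * U''.det with hd
  obtain ⟨y, hy, hy0⟩ : ∃ y : A[X], d = X ^ j * y ∧ y.coeff 0 = 1 := by
    let I : Ideal (PowerSeries A) := Ideal.span {PowerSeries.X ^ (j + 1)}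
    let π := Ideal.Quotient.mk I
    let co : A[X] →+* PowerSeries A := Polynomial.coeToPowerSeries.ringHom
    have hπ : (U''.map co).map π = (Matrix.of U').map π := by
      ext i i'
      simp only [Matrix.map_apply, π, Ideal.Quotient.eq, I, Ideal.mem_span_singleton, PowerSeries.X_pow_dvd_iff]
      intro q hq
      simp [U'', co, Polynomial.coeToPowerSeries.ringHom_apply, Polynomial.coeff_coe, PowerSeries.coeff_trunc, hq]
    have hdet : π (co d) = π (PowerSeries.X ^ j) := by
      rw [hd, ← Matrix.det_mul, RingHom.map_det, RingHom.map_det, RingHom.mapMatrix_apply,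
        RingHom.mapMatrix_apply, Matrix.map_mul, Matrix.map_mul, hπ, ← Matrix.map_mul, hU'U', smul_map', map_one',
        Matrix.det_smul, Matrix.det_one, mul_one, ← map_pow, ← pow_mul]
    rw [Ideal.Quotient.eq, Ideal.mem_span_singleton, PowerSeries.X_pow_dvd_iff] at hdet
    have hcoeff : ∀ q, q < j + 1 → d.coeff q = if q = j then 1 else 0 := fun q hq => by
      have := hdet q hq
      rw [map_sub, sub_eq_zero] at this
      simpa [co, PowerSeries.coeff_X_pow] using this
    obtain ⟨y, hy⟩ := Polynomial.X_pow_dvd_iff.2 fun q (hq : q < j) => by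
      rw [hcoeff q (by omega), if_neg (by omega)]
    refine ⟨y, hy, ?_⟩
    have := hcoeff j (by omega)
    rwa [hy, if_pos rfl, coeff_X_pow_mul', if_pos le_rfl, Nat.sub_self] at this
  let W := U''.det • U''.adjugate
  have hUW : U'' * W = d • 1 := by rw [Matrix.mul_smul, Matrix.mul_adjugate, smul_smul]
  have hWU : W * U'' = d • 1 := by rw [Matrix.smul_mul, Matrix.adjugate_mul, smul_smul]
  rw [← Matrix.fromBlocks_toBlocks U'', Matrix.fromBlocks_map, Matrix.fromBlocks_map,
    Matrix.fromBlocks_multiply, Matrix.fromBlocks_multiply, Matrix.fromBlocks_inj] at hU''P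
  simp only [Matrix.map_zero (f := ⇑C) (map_zero C), Matrix.mul_zero, Matrix.zero_mul, add_zero, zero_add] at hU''P
  obtain ⟨h11, h12, -, h22⟩ := hU''P
  rw [← Matrix.fromBlocks_toBlocks U'', ← Matrix.fromBlocks_toBlocks W, Matrix.fromBlocks_multiply,
    ← Matrix.fromBlocks_one, Matrix.fromBlocks_smul, Matrix.fromBlocks_inj] at hUW hWU
  set E := e.map (C : A →+* A[X])
  set F := f.map (C : A →+* A[X])
  have hE := map_idem' (C : A →+* A[X]) he
  have hF := map_idem' (C : A →+* A[X]) hf
  let α := E * U''.toBlocks₁₂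
  let β := F * W.toBlocks₂₁ * E
  obtain ⟨c, c', hcc⟩ : IsCoprime (X ^ j : A[X]) y := by
    refine IsCoprime.pow_left ⟨-y.divX, 1, ?_⟩
    have h := Polynomial.X_mul_divX_add y
    rw [hy0, map_one] at h
    linear_combination -h
  have G : GlueData (X ^ j) y c c' E F α β := by
    refine ⟨hcc, hE, hF, by simp only [α, ← Matrix.mul_assoc, E] at *; rw [hE], ?_, ?_, ?_, ?_, ?_⟩
    · simp only [α]; rw [Matrix.mul_assoc, h12, ← Matrix.mul_assoc, hE]
    · simp only [β, ← Matrix.mul_assoc]; rw [hF]
    · simp only [β, Matrix.mul_assoc]; rw [hE]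
    · have h1 : E * U''.toBlocks₁₂ * F = E * U''.toBlocks₁₂ := by
        rw [Matrix.mul_assoc, h12, ← Matrix.mul_assoc, hE]
      calc α * β = E * U''.toBlocks₁₂ * F * W.toBlocks₂₁ * E := by simp only [α, β, Matrix.mul_assoc]
        _ = E * (U''.toBlocks₁₁ * W.toBlocks₁₁ + U''.toBlocks₁₂ * W.toBlocks₂₁) * E := by
          rw [h1, Matrix.mul_add, ← Matrix.mul_assoc E U''.toBlocks₁₁, ← h11, Matrix.zero_mul, zero_add]
          simp only [Matrix.mul_assoc]
        _ = (X ^ j * y) • E := by rw [hUW.1, Matrix.mul_smul, Matrix.smul_mul, Matrix.mul_one, hE, ← hy]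
    · calc β * α = F * W.toBlocks₂₁ * (E * U''.toBlocks₁₂) := by
            simp only [α, β, Matrix.mul_assoc]; rw [← Matrix.mul_assoc E E, hE]
        _ = F * (W.toBlocks₂₁ * U''.toBlocks₁₂ + W.toBlocks₂₂ * U''.toBlocks₂₂) * F := by
          rw [← h12, Matrix.mul_add, Matrix.add_mul]
          simp only [Matrix.mul_assoc]
          rw [h22, Matrix.mul_zero, Matrix.mul_zero, add_zero]
        _ = (X ^ j * y) • F := by rw [hWU.2.2.2, Matrix.mul_smul, Matrix.smul_mul, Matrix.mul_one, hF, ← hy]
  set g := glue (X ^ j) y c c' E F α β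
  have hg : g * g = g := G.glue_idem
  have hext := extended hg fun p hp => by
    haveI := hp
    obtain ⟨r, hr⟩ := exists_eqv_one_toMonLoc_C p hf
    exact ⟨r, (G.eqv_left (toMonLoc A p) (isUnit_toMonLoc p (monic_X_pow j))).trans hr (map_idem' _ hg)
      (by rw [Matrix.one_mul])⟩
  have h10 := eqv_eval_of_extended hext 1
  have hcx : ∀ (x : A) (q : ℕ) (M : Matrix (Fin q) (Fin q) A), (M.map C).map (evalRingHom x) = M := fun x q M => by
    ext i i'
    simp
  have h0 : Eqv (g.map (evalRingHom 0)) e := by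
    have := G.eqv_right (evalRingHom 0) (by simp [← coeff_zero_eq_eval_zero, hy0])
    rwa [hcx] at this
  have h1 : Eqv (g.map (evalRingHom 1)) f := by
    have := G.eqv_left (evalRingHom 1) (by simp)
    rwa [hcx] at this
  exact (h0.symm.trans h10.symm he (map_idem' _ hg)).trans h1 he hf

end Groth.Agent.H22.Horrocks
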