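import Groth.Agent.H22.Horrocks.Idem
import Mathlib

/-!
Quillen patching for idempotent matrices over a polynomial ring.
-/

set_option autoImplicit false
universe u

open Polynomial

namespace Groth.Agent.H22.Horrocks

variable {A : Type u} [CommRing A] {n : ℕ}

/-- `X ↦ X + rY`. -/
noncomputable def sh (r : A) : A[X] →+* A[X][X] :=
  eval₂RingHom ((C).comp C) (C X + C (C r) * X)

theorem sh_C (r a : A) : sh r (C a) = C (C a) := by simp [sh]

theorem sh_X (r : A) : sh r (X : A[X]) = C X + C (C r) * X := by simp [sh]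

/-- `X ↦ X + rY`, `Y ↦ cY`. -/
noncomputable def th (r c : A) : A[X][X] →+* A[X][X] := eval₂RingHom (sh r) (C (C c) * X)

theorem th_comp_sh (r c r' : A) : (th r c).comp (sh r') = sh (r + c * r') := by
  refine Polynomial.ringHom_ext (fun a => ?_) ?_
  · simp [th, sh_C]
  · simp [th, sh_X, sh_C]; ring

theorem th_comp_C (r c : A) : (th r c).comp C = sh r := by
  refine Polynomial.ringHom_ext (fun a => ?_) ?_ <;> simp [th]

theorem sh_zero : sh (0 : A) = C := by
  refine Polynomial.ringHom_ext (fun a => ?_) ?_ <;> simp [sh]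

variable (e : Matrix (Fin n) (Fin n) A[X])

/-- The shifts that do not change the class of `e`. -/
def Good (r : A) : Prop := Eqv (e.map (sh r)) (e.map C)

theorem map_idem {S T : Type u} [CommRing S] [CommRing T] (φ : S →+* T) {f : Matrix (Fin n) (Fin n) S}
    (hf : f * f = f) : f.map φ * f.map φ = f.map φ := by
  rw [← Matrix.map_mul, hf]

/-- Substituting `Y ↦ cY`. -/
noncomputable def scale (c : A) : A[X][X] →+* A[X][X] := eval₂RingHom C (C (C c) * X)

theorem scale_C (c : A) (p : A[X]) : scale c (C p) = C p := by simp [scale]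

theorem exists_scale_eq (c : A) (P : A[X][X]) (q : A[X]) (h : P.coeff 0 = C c * q) :
    ∃ Q : A[X][X], Q.coeff 0 = q ∧ scale c P = C (C c) * Q := by
  refine ⟨C q + scale c P.divX * X, by simp, ?_⟩
  conv_lhs => rw [← Polynomial.X_mul_divX_add P, h]
  simp only [scale, map_add, map_mul, coe_eval₂RingHom, eval₂_C, eval₂_X]
  ring

theorem scale_eq_zero (c : A) (D : A[X][X]) (h0 : D.coeff 0 = 0) (hc : C (C c) * D = 0) :
    scale c D = 0 := by
  have hD : D = X * D.divX := by
    conv_lhs => rw [← Polynomial.X_mul_divX_add D, h0, map_zero, add_zero]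
  have h1 : C (C c) * D.divX = 0 := by
    have : X * (C (C c) * D.divX) = 0 := by rw [mul_left_comm, ← hD, hc]
    exact Polynomial.monic_X.mul_right_eq_zero_iff.1 this
  have h2 := congrArg (scale c) h1
  rw [map_mul, scale_C, map_zero] at h2
  rw [hD, map_mul, show scale c X = C (C c) * X by simp [scale]]
  linear_combination X * h2

theorem good_of_local (he : e * e = e) (s : A) (a b : Matrix (Fin n) (Fin n) A[X])
    (hab : a * b = C s • e) (hba : b * a = C s • e.map (C.comp (evalRingHom 0))) : Good e (s ^ 3) := by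
  set S1 := sh (1 : A)
  set ι : A[X] →+* A[X][X] := C
  set c : A[X][X] := C (C s)
  set E0 := (e.map (C.comp (evalRingHom 0))).map ι
  have hsmul : ∀ (φ : A[X] →+* A[X][X]) (hφ : φ (C s) = c) (M : Matrix (Fin n) (Fin n) A[X]),
      (C s • M).map φ = c • M.map φ := by
    intro φ hφ M
    ext i j : 1
    simp [Matrix.map_apply, Matrix.smul_apply, smul_eq_mul, map_mul, hφ]
  have hE0 : (e.map (C.comp (evalRingHom 0))).map S1 = E0 := by
    ext i j : 1
    simp [E0, S1, ι, Matrix.map_apply, sh_C]
  have r1 : a.map S1 * b.map S1 = c • e.map S1 := by rw [← Matrix.map_mul, hab, hsmul S1 (sh_C _ _)]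
  have r2 : b.map S1 * a.map S1 = c • E0 := by rw [← Matrix.map_mul, hba, hsmul S1 (sh_C _ _), hE0]
  have r3 : a.map ι * b.map ι = c • e.map ι := by rw [← Matrix.map_mul, hab, hsmul ι rfl]
  have r4 : b.map ι * a.map ι = c • E0 := by rw [← Matrix.map_mul, hba, hsmul ι rfl]
  set α := a.map S1 * b.map ι
  set β := a.map ι * b.map S1
  have hαβ : α * β = c • c • e.map S1 := by
    have h : a.map S1 * (b.map S1 * a.map S1) * b.map S1 = c • c • e.map S1 := by
      rw [← Matrix.mul_assoc, r1, Matrix.mul_assoc, r1, Matrix.smul_mul, Matrix.mul_smul,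
        map_idem S1 he]
    calc α * β = a.map S1 * (b.map ι * a.map ι) * b.map S1 := by simp only [α, β, Matrix.mul_assoc]
      _ = _ := by rw [r4, ← r2, h]
  have hβα : β * α = c • c • e.map ι := by
    have h : a.map ι * (b.map ι * a.map ι) * b.map ι = c • c • e.map ι := by
      rw [← Matrix.mul_assoc, r3, Matrix.mul_assoc, r3, Matrix.smul_mul, Matrix.mul_smul,
        map_idem ι he]
    calc β * α = a.map ι * (b.map S1 * a.map S1) * b.map ι := by simp only [α, β, Matrix.mul_assoc]
      _ = _ := by rw [r2, ← r4, h]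
  let κ : A[X][X] →+* A[X] := constantCoeff
  have hκS : κ.comp S1 = RingHom.id _ := by
    refine Polynomial.ringHom_ext (fun x => ?_) ?_ <;> simp [κ, S1, sh]
  have hκι : κ.comp ι = RingHom.id _ := by
    refine RingHom.ext fun x => ?_
    simp [κ, ι]
  have hm : ∀ (φ : A[X] →+* A[X][X]) (M : Matrix (Fin n) (Fin n) A[X]), κ.comp φ = RingHom.id _ →
      (M.map φ).map κ = M := by
    intro φ M hφ
    ext i j : 1
    simpa using RingHom.congr_fun hφ (M i j)
  have hα0 : α.map κ = C s • e := by simp only [α, Matrix.map_mul, hm S1 _ hκS, hm ι _ hκι, hab]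
  have hβ0 : β.map κ = C s • e := by simp only [β, Matrix.map_mul, hm S1 _ hκS, hm ι _ hκι, hab]
  choose α' hα' hαeq using fun i j => exists_scale_eq s (α i j) (e i j) (congrFun (congrFun hα0 i) j)
  choose β' hβ' hβeq using fun i j => exists_scale_eq s (β i j) (e i j) (congrFun (congrFun hβ0 i) j)
  have hA' : α.map (scale s) = c • Matrix.of α' := by ext i j : 1; exact hαeq i j
  have hB' : β.map (scale s) = c • Matrix.of β' := by ext i j : 1; exact hβeq i j
  have hA0 : (Matrix.of α').map κ = e := by ext i j : 1; exact hα' i j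
  have hB0 : (Matrix.of β').map κ = e := by ext i j : 1; exact hβ' i j
  have hsc : scale s c = c := scale_C _ _
  have key : ∀ (α₁ β₁ : Matrix (Fin n) (Fin n) A[X][X]) (f g : Matrix (Fin n) (Fin n) A[X][X]),
      α₁ * β₁ = c • c • f → α₁.map (scale s) = c • g → ∀ g' : Matrix (Fin n) (Fin n) A[X][X],
      β₁.map (scale s) = c • g' → c • c • (g * g' - f.map (scale s)) = 0 := by
    intro α₁ β₁ f g h1 h2 g' h3
    have h4 : (c • c • f).map (scale s) = c • c • f.map (scale s) := by
      ext i j : 1
      simp [hsc]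
    have := congrArg (fun M : Matrix (Fin n) (Fin n) A[X][X] => M.map (scale s)) h1
    simp only [Matrix.map_mul, h2, h3, h4, Matrix.smul_mul, Matrix.mul_smul] at this
    rw [smul_sub, smul_sub, this, sub_self]
  have hκscale : κ.comp (scale s) = κ := by
    refine Polynomial.ringHom_ext (fun x => ?_) ?_ <;> simp [κ, scale]
  have hfin : ∀ (g g' : Matrix (Fin n) (Fin n) A[X][X]) (φ : A[X] →+* A[X][X]), κ.comp φ = RingHom.id _ →
      g.map κ = e → g'.map κ = e → c • c • (g * g' - (e.map φ).map (scale s)) = 0 →
      g.map (scale (s ^ 2)) * g'.map (scale (s ^ 2)) = (e.map φ).map ((scale (s ^ 2)).comp (scale s)) := by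
    intro g g' φ hφ hg hg' h
    have hzero : ∀ i j, scale (s ^ 2) ((g * g' - (e.map φ).map (scale s)) i j) = 0 := by
      intro i j
      refine scale_eq_zero _ _ ?_ ?_
      · have h0 : (g * g' - (e.map φ).map (scale s)).map κ = 0 := by
          rw [Matrix.map_sub κ (map_sub κ), Matrix.map_mul, hg, hg', he]
          rw [sub_eq_zero]
          ext i j : 1
          have := RingHom.congr_fun hκscale (φ (e i j))
          simp only [RingHom.comp_apply] at this
          rw [Matrix.map_apply, Matrix.map_apply, Matrix.map_apply, this]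
          exact (RingHom.congr_fun hφ _).symm
        exact congrFun (congrFun h0 i) j
      · have := congrFun (congrFun h i) j
        simp only [Matrix.smul_apply, smul_eq_mul, Matrix.zero_apply] at this
        rw [pow_two, map_mul, map_mul, mul_assoc]
        exact this
    rw [← Matrix.map_mul]
    ext i j : 1
    have := hzero i j
    rw [Matrix.sub_apply, map_sub, sub_eq_zero] at this
    exact this
  have hcomp : ((scale (s ^ 2)).comp (scale s)).comp S1 = sh (s ^ 3) := by
    refine Polynomial.ringHom_ext (fun x => ?_) ?_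
    · simp [S1, sh_C, scale_C]
    · simp [S1, sh_X, scale]; ring
  have hcompι : ((scale (s ^ 2)).comp (scale s)).comp ι = C := by
    refine RingHom.ext fun x => ?_
    simp [ι, scale_C]
  refine ⟨(Matrix.of α').map (scale (s ^ 2)), (Matrix.of β').map (scale (s ^ 2)), ?_, ?_⟩
  · rw [hfin _ _ S1 hκS hA0 hB0 (key α β _ _ hαβ hA' _ hB'), Matrix.map_map, ← RingHom.coe_comp, hcomp]
  · rw [hfin _ _ ι hκι hB0 hA0 (key β α _ _ hβα hB' _ hA'), Matrix.map_map, ← RingHom.coe_comp, hcompι]

/-- Quillen patching: locally extended implies extended. -/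
theorem patching (he : e * e = e)
    (hloc : ∀ m : Ideal A, m.IsMaximal → ∃ s ∉ m, ∃ a b : Matrix (Fin n) (Fin n) A[X],
      a * b = C s • e ∧ b * a = C s • e.map (C.comp (evalRingHom 0))) :
    Eqv e (e.map (C.comp (evalRingHom 0))) := by
  have idm : ∀ φ : A[X] →+* A[X][X], e.map φ * e.map φ = e.map φ := fun φ => map_idem φ he
  let J : Ideal A :=
    { carrier := {r | Good e r}
      zero_mem' := by
        show Good e 0
        rw [Good, sh_zero]
        exact Eqv.refl (idm _)
      add_mem' := fun {r r'} hr hr' => by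
        show Good e (r + r')
        have h := hr'.map (th r 1)
        simp only [Matrix.map_map, ← RingHom.coe_comp, th_comp_sh, th_comp_C, one_mul] at h
        exact h.trans hr (idm _) (idm _)
      smul_mem' := fun c r hr => by
        show Good e (c * r)
        have h := hr.map (th 0 c)
        simp only [Matrix.map_map, ← RingHom.coe_comp, th_comp_sh, th_comp_C, zero_add, sh_zero] at h
        exact h }
  have hJ : J = ⊤ := by
    by_contra hne
    obtain ⟨m, hm, hle⟩ := Ideal.exists_le_maximal J hne
    obtain ⟨s, hs, a, b, hab, hba⟩ := hloc m hm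
    exact hs (hm.isPrime.mem_of_pow_mem 3 (hle (good_of_local e he s a b hab hba)))
  have h1 : Good e 1 := (Ideal.eq_top_iff_one J).1 hJ
  let ev : A[X][X] →+* A[X] := eval₂RingHom (C.comp (evalRingHom 0)) X
  have h := h1.map ev
  have e1 : ev.comp (sh 1) = RingHom.id _ := by
    refine Polynomial.ringHom_ext (fun x => ?_) ?_ <;> simp [ev, sh]
  have e2 : ev.comp C = C.comp (evalRingHom 0) := by
    refine RingHom.ext fun x => ?_
    simp [ev]
  simp only [Matrix.map_map, ← RingHom.coe_comp, e1, e2] at h
  simpa using h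

end Groth.Agent.H22.Horrocks
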